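import Cfsg.Agent.Lib.Char.NineTI.Main
import Cfsg.Agent.Lib.Coprime.FpfAction
import Mathlib.GroupTheory.FiniteAbelian.Duality
import Mathlib.RingTheory.RootsOfUnity.AlgebraicallyClosed
import Mathlib.Analysis.Complex.Polynomial.Basic

/-!
# Self-centralizing subgroups of order nine without the hypothesis of simplicity

Linear characters lead down to kernels with smaller normalizer quotient; the conclusion is that
either the subgroup is normal or, for the cyclic quotient of order four, the group is alternating of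
degree six.
-/

set_option autoImplicit false
set_option linter.unusedSectionVars false

namespace CfsgLib.Char.NineTI

open Cfsg CfsgLib.Char

universe u

variable {G : Type u} [Group G] [Finite G] {S : Subgroup G}

/-- Membership in the normalizer inside an intermediate subgroup. -/
theorem mem_normalizer_subgroupOf {L : Subgroup G} (hSL : S ≤ L) {y : L}
    (hy : y ∈ Subgroup.normalizer ((S.subgroupOf L : Subgroup L) : Set L)) :
    (y : G) ∈ Subgroup.normalizer (S : Set G) := by
  rw [Subgroup.mem_normalizer_iff] at hy ⊢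
  intro s
  constructor
  · intro hs
    exact (hy ⟨s, hSL hs⟩).1 hs
  · intro hs
    have hsL : s ∈ L := by
      have h1 := L.mul_mem (L.mul_mem (L.inv_mem y.2) (hSL hs)) y.2
      rwa [show (y : G)⁻¹ * ((y : G) * s * (y : G)⁻¹) * (y : G) = s by group] at h1
    exact (hy ⟨s, hsL⟩).2 hs

/-- The subgroup of the Sylow subgroup inside its normalizer. -/
theorem cube_mem_normalizer (P : Sylow 3 G) (hP : (P : Subgroup G) = S) {y : G}
    (hy : y ∈ Subgroup.normalizer (S : Set G)) (hy3 : y ^ 3 = 1) : y ∈ S := by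
  haveI : Fact (Nat.Prime 3) := ⟨Nat.prime_three⟩
  have hpg : IsPGroup 3 (Subgroup.zpowers y) := by
    by_cases hy1 : y = 1
    · subst hy1; rw [Subgroup.zpowers_one_eq_bot]; exact IsPGroup.of_bot
    · exact IsPGroup.of_card (n := 1) (by rw [Nat.card_zpowers, pow_one, orderOf_eq_prime hy3 hy1])
  have hnorm : y ∈ Subgroup.normalizer (P : Set G) := by
    rw [show (P : Set G) = (S : Set G) by rw [← hP]; rfl]; exact hy
  have hin : y ∈ Subgroup.zpowers y ⊓ Subgroup.normalizer (P : Set G) :=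
    ⟨Subgroup.mem_zpowers _, hnorm⟩
  rw [hpg.inf_normalizer_sylow P] at hin
  rw [← hP]
  exact hin.2

theorem Hyp.not_cyclic (h : Hyp S) : ¬ IsCyclic S := by
  intro hc
  obtain ⟨a, ha⟩ := IsCyclic.exists_ofOrder_eq_natCard (α := S)
  rw [h.nine] at ha
  have : orderOf a ∣ 3 := orderOf_dvd_of_pow_eq_one (Subtype.ext (h.exp a a.2))
  rw [ha] at this
  omega

/-- A subgroup normalized by `S` and meeting it trivially is trivial. -/
theorem Hyp.eq_bot_of_disjoint (h : Hyp S) {Q : Subgroup G} (hQ : S ≤ Subgroup.normalizer (Q : Set G))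
    (hd : Q ⊓ S = ⊥) : Q = ⊥ := by
  by_contra hQ1
  haveI : IsMulCommutative S := ⟨⟨fun a b => Subtype.ext (h.comm a.2 b.2)⟩⟩
  refine h.not_cyclic (CfsgLib.Coprime.IsFpfOn.isCyclic hQ ?_ hQ1)
  intro s hs hs1
  rw [h.cent s hs hs1, hd]

/-- Transfer to a normal complement. -/
theorem eq_top_of_normalizer_eq (h : Hyp S) (P : Sylow 3 G) (hP : (P : Subgroup G) = S)
    (hN : Subgroup.normalizer (S : Set G) = S) : S = ⊤ := by
  haveI : Fact (Nat.Prime 3) := ⟨Nat.prime_three⟩
  have hPS : (P : Set G) = (S : Set G) := by rw [← hP]; rfl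
  have hle : Subgroup.normalizer (P : Set G) ≤ Subgroup.centralizer (P : Set G) := by
    rw [hPS, hN]
    exact fun a ha => Subgroup.mem_centralizer_iff.2 fun b hb => h.comm hb ha
  have hcomp := MonoidHom.ker_transferSylow_isComplement' P hle
  set R := (MonoidHom.transferSylow P hle).ker with hR
  have hd : R ⊓ S = ⊥ := hP ▸ hcomp.disjoint.eq_bot
  have hR1 : R = ⊥ := h.eq_bot_of_disjoint (fun s _ => by
    rw [Subgroup.normalizer_eq_top_iff.2 inferInstance]; trivial) hd
  rw [hR1, Subgroup.isComplement'_bot_left, hP] at hcomp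
  exact hcomp

/-- A linear character agrees with one of its values on the normalizer. -/
theorem exists_normalizer_eq {A : Type*} [Group A] (P : Sylow 3 G) (hP : (P : Subgroup G) = S)
    (φ : G →* A) (hφ : ∀ s ∈ S, φ s = 1) (g : G) :
    ∃ n ∈ Subgroup.normalizer (S : Set G), φ n = φ g := by
  haveI : Fact (Nat.Prime 3) := ⟨Nat.prime_three⟩
  have hPL : (P : Subgroup G) ≤ φ.ker := fun s hs => hφ s (hP ▸ hs)
  have htop := Sylow.normalizer_sup_eq_top' P hPL
  have hg : g ∈ Subgroup.normalizer (P : Set G) ⊔ φ.ker := htop ▸ Subgroup.mem_top g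
  obtain ⟨n, hn, k, hk, rfl⟩ := Subgroup.mem_sup_of_normal_right.1 hg
  refine ⟨n, ?_, by rw [map_mul, MonoidHom.mem_ker.1 hk, mul_one]⟩
  rwa [show (S : Set G) = (P : Set G) by rw [← hP]; rfl]

theorem eq_one_of_normalizer {A : Type*} [Group A] (P : Sylow 3 G) (hP : (P : Subgroup G) = S)
    (φ : G →* A) (hφ : ∀ s ∈ S, φ s = 1) (hN : ∀ n ∈ Subgroup.normalizer (S : Set G), φ n = 1) : φ = 1 :=
  MonoidHom.ext fun g => by
    obtain ⟨n, hn, e⟩ := exists_normalizer_eq P hP φ hφ g
    rw [← e, hN n hn, MonoidHom.one_apply]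

/-- The hypothesis passes to kernels. -/
theorem Hyp.ker {A : Type*} [Group A] (h : Hyp S) (P : Sylow 3 G) (hP : (P : Subgroup G) = S)
    (φ : G →* A) (hφ : ∀ s ∈ S, φ s = 1) :
    Hyp (S.subgroupOf φ.ker) ∧ ∃ Q : Sylow 3 φ.ker, (Q : Subgroup φ.ker) = S.subgroupOf φ.ker := by
  have hSL : S ≤ φ.ker := fun s hs => hφ s hs
  refine ⟨⟨?_, fun a ha => Subtype.ext (h.exp _ ha), fun s hs hs1 => ?_, fun y hy => ?_⟩,
    P.subtype (hP ▸ hSL), by rw [Sylow.coe_subtype, hP]⟩
  · rw [Nat.card_congr (Subgroup.subgroupOfEquivOfLe hSL).toEquiv, h.nine]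
  · ext y
    rw [Subgroup.mem_centralizer_singleton_iff, Subgroup.mem_subgroupOf, ← h.cent (s : G) hs
      (fun e => hs1 (Subtype.ext e)), Subgroup.mem_centralizer_singleton_iff]
    exact ⟨fun e => congrArg Subtype.val e, fun e => Subtype.ext e⟩
  · obtain ⟨g, hg⟩ := h.into (y : G) (congrArg Subtype.val hy)
    obtain ⟨n, hn, e⟩ := exists_normalizer_eq P hP φ hφ g
    refine ⟨⟨n⁻¹ * g, by rw [MonoidHom.mem_ker, map_mul, map_inv, e, inv_mul_cancel]⟩, ?_⟩
    show n⁻¹ * g * (y : G) * (n⁻¹ * g)⁻¹ ∈ S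
    rw [show n⁻¹ * g * (y : G) * (n⁻¹ * g)⁻¹ = n⁻¹ * (g * (y : G) * g⁻¹) * n⁻¹⁻¹ by group]
    exact (Subgroup.mem_normalizer_iff.1 (Subgroup.inv_mem _ hn) _).1 hg

variable {e : ℕ}

theorem Frame.surj (F : Frame S e) (h : Hyp S) {s : G} (hs : s ∈ S) : ∃ v, F.el v = s := by
  obtain ⟨v, hv⟩ := (F.bijective h).2 ⟨s, hs⟩
  exact ⟨v, congrArg Subtype.val hv⟩

/-- An element acting trivially lies in `S`. -/
theorem Frame.mem_of_fix (F : Frame S e) (h : Hyp S) {g : G}
    (hg : g * F.el (1, 0) * g⁻¹ = F.el (1, 0)) : g ∈ S :=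
  h.mem_of_comm (F.mem (1, 0)) (F.el_ne_one (show ((1, 0) : V9) ≠ 0 by decide))
    (mul_inv_eq_iff_eq_mul.1 hg)

/-- The inverting representative kills the linear characters on `S`. -/
theorem Frame.hom_one (F : Frame S e) (h : Hyp S) {j : Fin e} (hj : ∀ v, F.M j v = -v)
    (φ : G →* ℂˣ) {s : G} (hs : s ∈ S) : φ s = 1 := by
  haveI := Fintype.ofFinite G
  obtain ⟨v, rfl⟩ := F.surj h hs
  have e1 := congrArg φ (F.act j v)
  rw [map_mul, map_mul, map_inv, hj, F.el_neg, map_inv, mul_comm (φ (F.rep j)), mul_inv_cancel_right] at e1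
  have e3 : φ (F.el v) ^ 3 = 1 := by rw [← map_pow, h.exp _ (F.mem v), map_one]
  have e2 : φ (F.el v) ^ 2 = 1 := by rw [pow_two]; nth_rewrite 1 [e1]; rw [inv_mul_cancel]
  calc φ (F.el v) = φ (F.el v) ^ 3 * (φ (F.el v) ^ 2)⁻¹ := by group
    _ = 1 := by rw [e3, e2]; group

/-- Quotient of order two: `S` is normal. -/
theorem normal_of_two (h : Hyp S) (P : Sylow 3 G) (hP : (P : Subgroup G) = S) (F : Frame S 2)
    (hM : F.M = neg2) : S.Normal := by
  haveI := Fintype.ofFinite G
  obtain ⟨φ, hne⟩ : ∃ φ : G →* ℂˣ, φ ≠ 1 := by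
    by_contra hc
    push Not at hc
    exact no_linear_two h F hM hc
  have hφS : ∀ s ∈ S, φ s = 1 := fun s hs => F.hom_one h (j := 1) (fun v => by rw [hM]; rfl) φ hs
  have hSL : S ≤ φ.ker := fun s hs => hφS s hs
  have h0 : F.rep 0 ∈ S := F.mem_of_fix h (by rw [F.act, hM]; rfl)
  obtain ⟨hK, Q, hQ⟩ := h.ker P hP φ hφS
  have hN : Subgroup.normalizer ((S.subgroupOf φ.ker : Subgroup φ.ker) : Set φ.ker) = S.subgroupOf φ.ker := by
    refine le_antisymm (fun y hy => ?_) Subgroup.le_normalizer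
    obtain ⟨j, hj⟩ := F.cover _ (mem_normalizer_subgroupOf hSL hy)
    rw [Subgroup.mem_subgroupOf]
    have hj0 : j = 0 := by
      by_contra hj0
      have hj1 : j = 1 := by omega
      subst hj1
      refine hne (eq_one_of_normalizer P hP φ hφS fun n hn => ?_)
      have h1 : φ (F.rep 1) = 1 := by
        have := hφS _ hj
        rwa [map_mul, map_inv, MonoidHom.mem_ker.1 y.2, mul_one, inv_eq_one] at this
      obtain ⟨k, hk⟩ := F.cover n hn
      have h2 := hφS _ hk
      rcases (show k = 0 ∨ k = 1 by omega) with rfl | rfl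
      · rwa [map_mul, map_inv, hφS _ h0, inv_one, one_mul] at h2
      · rwa [map_mul, map_inv, h1, inv_one, one_mul] at h2
    subst hj0
    have := S.mul_mem h0 hj
    rwa [mul_inv_cancel_left] at this
  have htop := eq_top_of_normalizer_eq hK Q hQ hN
  have hker : φ.ker ≤ S := Subgroup.subgroupOf_eq_top.1 htop
  rw [show S = φ.ker from le_antisymm hSL hker]
  infer_instance

theorem rot4_comm : ∀ i j v, rot4 i (rot4 j v) = rot4 j (rot4 i v) := by decide

/-- Quotient cyclic of order four with a linear character: `S` is normal. -/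
theorem normal_of_four_lin (h : Hyp S) (P : Sylow 3 G) (hP : (P : Subgroup G) = S) (F : Frame S 4)
    (hM : F.M = rot4) {φ : G →* ℂˣ} (hne : φ ≠ 1) : S.Normal := by
  have hφS : ∀ (ψ : G →* ℂˣ), ∀ s ∈ S, ψ s = 1 := fun ψ s hs =>
    F.hom_one h (j := 2) (fun v => by rw [hM]; rfl) ψ hs
  have hfix : ∀ g g' : G, (∀ v, g * F.el v * g⁻¹ = g' * F.el v * g'⁻¹) → ∀ ψ : G →* ℂˣ, ψ g = ψ g' := by
    intro g g' hgg ψ
    have hm : g⁻¹ * g' ∈ S := F.mem_of_fix h (by
      calc g⁻¹ * g' * F.el (1, 0) * (g⁻¹ * g')⁻¹ = g⁻¹ * (g' * F.el (1, 0) * g'⁻¹) * g := by group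
        _ = F.el (1, 0) := by rw [← hgg]; group)
    have := hφS ψ _ hm
    rwa [map_mul, map_inv, inv_mul_eq_one] at this
  have hact : ∀ i j v, F.rep i * F.rep j * F.el v * (F.rep i * F.rep j)⁻¹ = F.el (rot4 i (rot4 j v)) := by
    intro i j v
    rw [show F.rep i * F.rep j * F.el v * (F.rep i * F.rep j)⁻¹ =
      F.rep i * (F.rep j * F.el v * (F.rep j)⁻¹) * (F.rep i)⁻¹ by group, F.act, F.act, hM]
  have hpow : ∀ ψ : G →* ℂˣ, ψ (F.rep 0) = 1 ∧ ψ (F.rep 2) = ψ (F.rep 1) * ψ (F.rep 1) ∧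
      ψ (F.rep 3) = ψ (F.rep 1) * ψ (F.rep 2) ∧ ψ (F.rep 1) * ψ (F.rep 3) = 1 := by
    intro ψ
    refine ⟨?_, ?_, ?_, ?_⟩
    · rw [← map_one ψ]
      exact hfix _ _ (fun v => by rw [F.act, hM]; show F.el v = _; group) ψ
    · rw [← map_mul]
      exact hfix _ _ (fun v => by rw [F.act, hM, hact]; exact congrArg F.el (by revert v; decide)) ψ
    · rw [← map_mul]
      exact hfix _ _ (fun v => by rw [F.act, hM, hact]; exact congrArg F.el (by revert v; decide)) ψ
    · rw [← map_mul, ← map_one ψ]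
      exact hfix _ _ (fun v => by
        rw [hact]; rw [show rot4 1 (rot4 3 v) = v by revert v; decide]; group) ψ
  have hN1 : ∀ ψ : G →* ℂˣ, ψ (F.rep 1) = 1 → ψ = 1 := by
    intro ψ h1
    refine eq_one_of_normalizer P hP ψ (hφS ψ) fun n hn => ?_
    obtain ⟨k, hk⟩ := F.cover n hn
    obtain ⟨p0, p2, p3, -⟩ := hpow ψ
    have h2 := hφS ψ _ hk
    rw [map_mul, map_inv, inv_mul_eq_one] at h2
    rw [← h2]
    fin_cases k
    · exact p0
    · exact h1
    · show ψ (F.rep 2) = 1
      rw [p2, h1, one_mul]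
    · show ψ (F.rep 3) = 1
      rw [p3, p2, h1, one_mul, one_mul]
  have hsq : ∀ z : ℂˣ, z * z = 1 → z = 1 ∨ z = -1 := fun z hz => by
    have h' : (z : ℂ) * z = 1 := by rw [← Units.val_mul, hz, Units.val_one]
    rcases mul_self_eq_one_iff.1 h' with e | e
    · exact Or.inl (Units.ext e)
    · exact Or.inr (Units.ext (by rw [e]; simp))
  obtain ⟨ψ, hψ⟩ : ∃ ψ : G →* ℂˣ, ψ (F.rep 1) = -1 := by
    obtain ⟨-, p2, p3, p4⟩ := hpow φ
    set z := φ (F.rep 1) with hz
    have hz4 : (z * z) * (z * z) = 1 := by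
      rw [p3, p2] at p4
      simpa [mul_assoc] using p4
    rcases hsq _ hz4 with e | e
    · rcases hsq z e with e' | e'
      · exact absurd (hN1 φ e') hne
      · exact ⟨φ, e'⟩
    · exact ⟨φ * φ, by rw [MonoidHom.mul_apply, ← hz, e]⟩
  obtain ⟨p0, p2, p3, -⟩ := hpow ψ
  rw [hψ, neg_mul_neg, one_mul] at p2
  rw [hψ, p2, mul_one] at p3
  have hne1 : (-1 : ℂˣ) ≠ 1 := fun e => by
    have := congrArg Units.val e
    norm_num at this
  have hSL : S ≤ ψ.ker := fun s hs => hφS ψ s hs
  obtain ⟨hK, Q, hQ⟩ := h.ker P hP ψ (hφS ψ)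
  let F' : Frame (S.subgroupOf ψ.ker) 2 :=
    { el := fun v => ⟨F.el v, hSL (F.mem v)⟩
      M := neg2
      rep := ![1, ⟨F.rep 2, p2⟩]
      mem := fun v => F.mem v
      add := fun v w => Subtype.ext (F.add v w)
      inj := fun v w e => F.inj (congrArg Subtype.val e)
      act := fun j v => by
        fin_cases j
        · refine Subtype.ext ?_
          show (1 : G) * F.el v * 1⁻¹ = F.el v
          group
        · refine Subtype.ext ?_
          show F.rep 2 * F.el v * (F.rep 2)⁻¹ = F.el (-v)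
          rw [F.act, hM]
          rfl
      repN := fun j => by
        refine Subgroup.le_normalizer_comap ψ.ker.subtype ?_
        show ((![1, ⟨F.rep 2, p2⟩] : Fin 2 → ψ.ker) j : G) ∈ Subgroup.normalizer (S : Set G)
        fin_cases j
        · exact Subgroup.one_mem _
        · exact F.repN 2
      cover := fun y hy => by
        obtain ⟨j, hj⟩ := F.cover _ (mem_normalizer_subgroupOf hSL hy)
        have h2 := hφS ψ _ hj
        rw [map_mul, map_inv, MonoidHom.mem_ker.1 y.2, mul_one, inv_eq_one] at h2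
        have h0 : F.rep 0 ∈ S := F.mem_of_fix h (by rw [F.act, hM]; rfl)
        fin_cases j
        · refine ⟨0, Subgroup.mem_subgroupOf.2 ?_⟩
          show (1 : G)⁻¹ * (y : G) ∈ S
          have := S.mul_mem h0 hj
          rwa [inv_one, one_mul, ← mul_inv_cancel_left (F.rep 0) (y : G)]
        · exact absurd (hψ.symm.trans h2) hne1
        · exact ⟨1, Subgroup.mem_subgroupOf.2 hj⟩
        · exact absurd (p3.symm.trans h2) hne1
      distinct := fun i j hij => by
        have key : ¬ (F.rep 2 ∈ S) := fun hm => by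
          have e := F.act 2 (1, 0)
          rw [hM, h.comm hm (F.mem _), mul_inv_cancel_right] at e
          exact absurd (F.inj e) (show ((1, 0) : V9) ≠ rot4 2 (1, 0) by decide)
        fin_cases i <;> fin_cases j <;> simp_all [Subgroup.mem_subgroupOf] }
  have hn := normal_of_two hK Q hQ F' rfl
  refine ⟨fun x hx g => ?_⟩
  have hgx : g * x * g⁻¹ ∈ ψ.ker := (MonoidHom.normal_ker ψ).conj_mem x (hSL hx) g
  have hLN : ψ.ker ≤ Subgroup.normalizer (S : Set G) := fun y hy =>
    mem_normalizer_subgroupOf hSL (y := ⟨y, hy⟩)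
      (by rw [Subgroup.normalizer_eq_top_iff.2 hn]; trivial)
  exact cube_mem_normalizer P hP (hLN hgx) (by rw [conj_pow, h.exp x hx]; group)

/-- Free orbits on the cosets of the normalizer. -/
theorem index_mod_nine (h : Hyp S) (P : Sylow 3 G) (hP : (P : Subgroup G) = S) :
    (Subgroup.normalizer (S : Set G)).index % 9 = 1 := by
  classical
  set N := Subgroup.normalizer (S : Set G) with hN
  let Y := {q : G ⧸ N // q ≠ ((1 : G) : G ⧸ N)}
  have hfixS : ∀ (s : S), (s : G) • ((1 : G) : G ⧸ N) = ((1 : G) : G ⧸ N) := fun s => by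
    rw [MulAction.Quotient.smul_mk, QuotientGroup.eq, smul_eq_mul, mul_one, mul_one]
    exact N.inv_mem (Subgroup.le_normalizer s.2)
  letI : MulAction S Y :=
    { smul := fun s q => ⟨(s : G) • q.1, fun e => q.2 (smul_left_cancel (s : G) (e.trans (hfixS s).symm))⟩
      one_smul := fun q => Subtype.ext (one_smul G q.1)
      mul_smul := fun s s' q => Subtype.ext (mul_smul (s : G) s' q.1) }
  have hfree : ∀ q : Y, MulAction.stabilizer S q = ⊥ := by
    intro q
    rw [Subgroup.eq_bot_iff_forall]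
    intro s hs
    obtain ⟨k, hk⟩ := QuotientGroup.mk_surjective q.1
    have e : (s : G) • q.1 = q.1 := congrArg Subtype.val hs
    rw [← hk, MulAction.Quotient.smul_mk, QuotientGroup.eq, smul_eq_mul] at e
    by_contra hs1
    apply q.2
    rw [← hk, QuotientGroup.eq, mul_one]
    have hm : k⁻¹ * (s : G) * k ∈ N := by
      have := N.inv_mem e
      rwa [mul_inv_rev, inv_inv, ← mul_assoc] at this
    have hS : k⁻¹ * (s : G) * k ∈ S := cube_mem_normalizer P hP hm (by
      rw [show k⁻¹ * (s : G) * k = k⁻¹ * (s : G) * k⁻¹⁻¹ by group, conj_pow, h.exp _ s.2]; group)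
    by_contra hk'
    exact hs1 (Subtype.ext (ca_ti S h.cent k⁻¹ hk' _ s.2 (by simpa using hS)))
  have hY := Nat.card_congr (MulAction.selfEquivOrbitsQuotientProd hfree)
  rw [Nat.card_prod, h.nine] at hY
  haveI := Fintype.ofFinite (G ⧸ N)
  have hYc : Nat.card Y = N.index - 1 := by
    rw [Subgroup.index_eq_card, Nat.card_eq_fintype_card, Fintype.card_subtype_compl,
      Fintype.card_subtype_eq, Nat.card_eq_fintype_card]
  have : 1 ≤ N.index := Nat.pos_of_ne_zero Subgroup.index_ne_zero_of_finite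
  omega

theorem Frame.normal_inf_ne (F : Frame S e) (h : Hyp S) {M : Subgroup G} (hMn : M.Normal)
    (hM : M ≠ ⊥) : M ⊓ S ≠ ⊥ := fun hd =>
  hM (h.eq_bot_of_disjoint (fun _ _ => by rw [Subgroup.normalizer_eq_top_iff.2 hMn]; trivial) hd)

/-- Quotient cyclic of order four: `S` is normal or the group is alternating of degree six. -/
theorem normal_or_alt_six_of_four (h : Hyp S) (P : Sylow 3 G) (hP : (P : Subgroup G) = S)
    (F : Frame S 4) (hM : F.M = rot4) : S.Normal ∨ Nonempty (G ≃* alternatingGroup (Fin 6)) := by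
  classical
  haveI := Fintype.ofFinite G
  by_cases hlin : ∀ φ : G →* ℂˣ, φ = 1
  swap
  · push Not at hlin
    obtain ⟨φ, hφ⟩ := hlin
    exact Or.inl (normal_of_four_lin h P hP F hM hφ)
  set N := Subgroup.normalizer (S : Set G) with hN
  have hN36 : Nat.card N = 36 := F.card_cover h
  have hgn : Nat.card G = 36 * N.index := by rw [← N.card_mul_index, hN36]
  have hle := card_le_of_four h F hM hlin
  have hn9 := index_mod_nine h P hP
  rw [← hN] at hn9
  have hcases : N.index = 1 ∨ N.index = 10 ∨ N.index = 19 := by omega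
  rcases hcases with e | e | e
  · exact Or.inl (Subgroup.normalizer_eq_top_iff.1 (Subgroup.index_eq_one.1 e))
  · haveI : IsSimpleGroup G := by
      haveI : Nontrivial G := Finite.one_lt_card_iff_nontrivial.1 (by rw [hgn, e]; norm_num)
      refine ⟨fun M hMn => ?_⟩
      by_contra hcon
      rw [not_or] at hcon
      haveI := hMn
      obtain ⟨x, hx, hx1⟩ := (M ⊓ S).bot_or_exists_ne_one.resolve_left (F.normal_inf_ne h hMn hcon.1)
      obtain ⟨v, rfl⟩ := F.surj h hx.2
      have hv : v ≠ 0 := fun e => hx1 (by rw [e, F.el_zero])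
      have hrot : ∀ j, F.el (rot4 j v) ∈ M := fun j => by
        rw [← hM, ← F.act]
        exact hMn.conj_mem _ hx.1 _
      have hSM : S ≤ M := by
        intro s hs
        obtain ⟨w, rfl⟩ := F.surj h hs
        obtain ⟨i, k, e'⟩ : ∃ i k : ZMod 3, w = (i * v.1 + k * (-v.2), i * v.2 + k * v.1) :=
          (show ∀ v w : V9, v ≠ 0 → ∃ i k : ZMod 3, w = (i * v.1 + k * (-v.2), i * v.2 + k * v.1) by
            decide +kernel) v w hv
        have hmul : ∀ (i : ZMod 3) (u : V9), F.el u ∈ M → F.el (i * u.1, i * u.2) ∈ M := by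
          intro i u hu
          rcases (show ∀ i : ZMod 3, i = 0 ∨ i = 1 ∨ i = -1 by decide) i with rfl | rfl | rfl
          · simp only [zero_mul]; rw [show ((0, 0) : V9) = 0 from rfl, F.el_zero]; exact M.one_mem
          · simpa using hu
          · rw [show ((-1 : ZMod 3) * u.1, (-1 : ZMod 3) * u.2) = -u by ext <;> simp, F.el_neg]
            exact M.inv_mem hu
        rw [e', show ((i * v.1 + k * (-v.2), i * v.2 + k * v.1) : V9) =
          (i * v.1, i * v.2) + (k * (-v.2), k * v.1) from rfl, F.add]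
        exact M.mul_mem (hmul i v hx.1) (hmul k (-v.2, v.1) (hrot 1))
      -- the quotient is abelian
      have hsurj : ∀ g : G, ∃ j : Fin 4, (QuotientGroup.mk g : G ⧸ M) = QuotientGroup.mk (F.rep j) := by
        intro g
        obtain ⟨n, hn, e'⟩ := exists_normalizer_eq P hP (QuotientGroup.mk' M)
          (fun s hs => (QuotientGroup.eq_one_iff s).2 (hSM hs)) g
        obtain ⟨j, hj⟩ := F.cover n hn
        refine ⟨j, (e'.symm.trans (QuotientGroup.eq.2 ?_ : _))⟩
        have := M.inv_mem (hSM hj)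
        rwa [mul_inv_rev, inv_inv] at this
      have hab : ∀ p q : G ⧸ M, p * q = q * p := by
        intro p q
        obtain ⟨a, rfl⟩ := QuotientGroup.mk_surjective p
        obtain ⟨b, rfl⟩ := QuotientGroup.mk_surjective q
        obtain ⟨i, ei⟩ := hsurj a
        obtain ⟨j, ej⟩ := hsurj b
        rw [ei, ej, ← QuotientGroup.mk_mul, ← QuotientGroup.mk_mul, QuotientGroup.eq]
        refine hSM (F.mem_of_fix h ?_)
        have e1 : ∀ i j v, F.rep i * (F.rep j * F.el v * (F.rep j)⁻¹) * (F.rep i)⁻¹ =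
            F.el (rot4 i (rot4 j v)) := fun i j v => by rw [F.act, F.act, hM]
        calc (F.rep i * F.rep j)⁻¹ * (F.rep j * F.rep i) * F.el (1, 0) *
              ((F.rep i * F.rep j)⁻¹ * (F.rep j * F.rep i))⁻¹ =
            (F.rep i * F.rep j)⁻¹ * (F.rep j * (F.rep i * F.el (1, 0) * (F.rep i)⁻¹) * (F.rep j)⁻¹) *
              (F.rep i * F.rep j) := by group
          _ = (F.rep i * F.rep j)⁻¹ * (F.rep i * (F.rep j * F.el (1, 0) * (F.rep j)⁻¹) * (F.rep i)⁻¹) *
              (F.rep i * F.rep j) := by rw [e1, e1, rot4_comm]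
          _ = F.el (1, 0) := by group
      letI : CommGroup (G ⧸ M) := { (inferInstance : Group (G ⧸ M)) with mul_comm := hab }
      obtain ⟨g, hg⟩ : ∃ g : G, (QuotientGroup.mk g : G ⧸ M) ≠ 1 := by
        by_contra hc
        push Not at hc
        exact hcon.2 (eq_top_iff.2 fun g _ => (QuotientGroup.eq_one_iff g).1 (hc g))
      obtain ⟨χ, hχ⟩ := CommGroup.exists_apply_ne_one_of_hasEnoughRootsOfUnity (G ⧸ M) ℂ hg
      exact hχ (DFunLike.congr_fun (hlin (χ.comp (QuotientGroup.mk' M))) g)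
    exact Or.inr (Cfsg.Agent.S0497.result (by rw [hgn, e]))
  · exfalso
    rw [e] at hgn
    haveI : Fact (Nat.Prime 19) := ⟨by norm_num⟩
    obtain ⟨Q⟩ : Nonempty (Sylow 19 G) := inferInstance
    have h1 := card_sylow_modEq_one 19 G
    have h2 : Nat.card (Sylow 19 G) ∣ (Q : Subgroup G).index := Q.card_dvd_index
    have hQ : Nat.card (Q : Subgroup G) = 19 := by
      rw [Q.card_eq_multiplicity, hgn, show 36 * 19 = 19 ^ 1 * 36 by norm_num,
        Nat.factorization_mul (by norm_num) (by norm_num), Finsupp.add_apply,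
        Nat.Prime.factorization_pow Fact.out, Finsupp.single_eq_same,
        Nat.factorization_eq_zero_of_not_dvd (by norm_num), add_zero, pow_one]
    have hidx : (Q : Subgroup G).index = 36 := by
      have := (Q : Subgroup G).card_mul_index
      rw [hQ, hgn] at this
      omega
    rw [hidx] at h2
    have hone : Nat.card (Sylow 19 G) = 1 := by
      have hle36 := Nat.le_of_dvd (by norm_num) h2
      rw [Nat.ModEq] at h1
      have : Nat.card (Sylow 19 G) = 1 ∨ Nat.card (Sylow 19 G) = 20 := by omega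
      rcases this with e1 | e1
      · exact e1
      · rw [e1] at h2; norm_num at h2
    haveI : Subsingleton (Sylow 19 G) := (Nat.card_eq_one_iff_unique.1 hone).1
    have hQn : (Q : Subgroup G).Normal := Q.normal_of_subsingleton
    have hQ1 : (Q : Subgroup G) ≠ ⊥ := fun e' => by rw [e', Subgroup.card_bot] at hQ; norm_num at hQ
    refine F.normal_inf_ne h hQn hQ1 (Subgroup.eq_bot_of_card_eq _ ?_)
    refine Nat.eq_one_of_dvd_coprimes (show Nat.Coprime 19 9 by norm_num) ?_ ?_
    · exact (Subgroup.card_dvd_of_le inf_le_left).trans (dvd_of_eq hQ)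
    · exact (Subgroup.card_dvd_of_le inf_le_right).trans (dvd_of_eq h.nine)

end CfsgLib.Char.NineTI
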