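import Cfsg.Agent.Lib.Char.NineTI.Tools

/-!
# Normalizer quotient of order four
-/

set_option autoImplicit false
set_option linter.unusedSectionVars false

namespace CfsgLib.Char.NineTI

open scoped ComplexConjugate
open Cfsg CfsgLib.Char CfsgLib.Char.Signed

universe u

/-- The rotations of the plane over the field of three elements. -/
def rot4 : Fin 4 → V9 → V9 :=
  ![fun v => v, fun v => (-v.2, v.1), fun v => (-v.1, -v.2), fun v => (v.2, -v.1)]

/-- The first orbit sum. -/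
def f1 (v : V9) : ℤ := (if v.1 = 0 then 0 else 3) + (if v.2 = 0 then 0 else 3)
/-- The second orbit sum. -/
def f2 (v : V9) : ℤ := (if v.1 + v.2 = 0 then 0 else 3) + (if v.1 - v.2 = 0 then 0 else 3)
/-- The first orbit. -/
def ka (v : V9) : ℤ := if (v.1 = 0) ≠ (v.2 = 0) then 1 else 0
/-- The second orbit. -/
def kb (v : V9) : ℤ := if v.1 ≠ 0 ∧ v.2 ≠ 0 then 1 else 0
/-- Membership in the first orbit. -/
def Oa4 (v : V9) : Bool := decide (v = (1, 0) ∨ v = (0, 1) ∨ v = (2, 0) ∨ v = (0, 2))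

theorem orbit_a : ∀ v, (∃ j, rot4 j (1, 0) = v) ↔ Oa4 v = true := by decide
theorem ka_eq : ∀ v, ka v = 1 → Oa4 v = true := by decide
theorem kb_orbit : ∀ v, kb v = 1 → ∃ j, rot4 j (1, 1) = v := by decide
theorem kb_not : ∀ v, kb v ≠ 0 → Oa4 v = false := by decide
theorem inv4 : ∀ j v, f1 (rot4 j v) = f1 v ∧ f2 (rot4 j v) = f2 v := by decide
theorem comb_a : ∀ v, 9 * ka v = (-1) * f1 v + 2 * f2 v := by decide
theorem comb_b : ∀ v, 9 * kb v = 2 * f1 v + (-1) * f2 v := by decide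
theorem sums4 : (∑ v : V9, f1 v * f1 v = (4 : ℤ) * 9 * 5) ∧ (∑ v : V9, f2 v * f2 v = (4 : ℤ) * 9 * 5) ∧
    (∑ v : V9, f1 v * f2 v = (4 : ℤ) * 9 * 4) ∧ (∑ v : V9, f1 v = (4 : ℤ) * 9 * 1) ∧
    (∑ v : V9, f2 v = (4 : ℤ) * 9 * 1) ∧ (∑ v : V9, ka v = 4) ∧ (∑ v : V9, kb v = 4) ∧
    (∑ v : V9, ∑ w : V9, (if Oa4 v && Oa4 w then kb (v + w) else 0) = (4 : ℤ) * 2) := by decide

theorem arith_four {g W1 W2 W3 U : ℤ} (hg : 0 < g) (h1 : (9 : ℤ) ∣ W1 + 8) (h1' : W1 ≠ 1)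
    (h2 : (9 : ℤ) ∣ W2 + 8) (h2' : W2 ≠ 1) (h3 : (9 : ℤ) ∣ W3 + 8) (h3' : W3 ≠ 1) (hU : (9 : ℤ) ∣ U + 4)
    (heq : 1 + 1 / (W1 : ℚ) + 1 / (W2 : ℚ) + 1 / (W3 : ℚ) - 2 / (U : ℚ) = 162 / (g : ℚ)) : g ≤ 720 := by
  have hb : ∀ W : ℤ, (9 : ℤ) ∣ W + 8 → W ≠ 1 → -(1 / 8 : ℚ) ≤ 1 / (W : ℚ) := by
    intro W hd hne
    obtain ⟨k, hk⟩ := hd
    rcases le_or_gt W 0 with hW | hW
    · have h8 : W ≤ -8 := by omega
      have h8' : (W : ℚ) ≤ -8 := by exact_mod_cast h8
      rw [le_div_iff_of_neg (by linarith)]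
      linarith
    · have hpos : (0 : ℚ) < W := by exact_mod_cast hW
      exact le_trans (by norm_num) (div_pos one_pos hpos).le
  have hu : -(2 / 5 : ℚ) ≤ -(2 / (U : ℚ)) := by
    obtain ⟨k, hk⟩ := hU
    rcases le_or_gt U 0 with hW | hW
    · have h8 : U ≤ -4 := by omega
      have h8' : (U : ℚ) ≤ -4 := by exact_mod_cast h8
      have : 2 / (U : ℚ) ≤ 0 := div_nonpos_of_nonneg_of_nonpos (by norm_num) (by linarith)
      linarith
    · have h5 : 5 ≤ U := by omega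
      have h5' : (5 : ℚ) ≤ U := by exact_mod_cast h5
      rw [neg_le_neg_iff, div_le_div_iff₀ (by linarith) (by norm_num)]
      linarith
  have hg' : (0 : ℚ) < g := by exact_mod_cast hg
  have key : (9 / 40 : ℚ) ≤ 162 / (g : ℚ) := by
    rw [← heq]
    linarith [hb W1 h1 h1', hb W2 h2 h2', hb W3 h3 h3']
  rw [le_div_iff₀ hg'] at key
  have : (g : ℚ) ≤ 720 := by linarith
  exact_mod_cast this

variable {G : Type u} [Group G] [Fintype G] {S : Subgroup G}

/-- The order is bounded. -/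
theorem card_le_of_four (h : Hyp S) (F : Frame S 4) (hM : F.M = rot4)
    (hlin : ∀ φ : G →* ℂˣ, φ = 1) : Nat.card G ≤ 720 := by
  classical
  obtain ⟨s11, s22, s12, s1, s2, ska, skb, spairs⟩ := sums4
  have hi1 : ∀ j v, f1 (F.M j v) = f1 v := fun j v => by rw [hM]; exact (inv4 j v).1
  have hi2 : ∀ j v, f2 (F.M j v) = f2 v := fun j v => by rw [hM]; exact (inv4 j v).2
  set R1 := F.R h f1 with hR1
  set R2 := F.R h f2 with hR2
  have g1 : Gen R1 := F.gen_R h (AddMonoidHom.fst _ _) (by norm_num) fun v => by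
    rw [hM, Fin.sum_univ_four]
    show _ = 1 - Frame.cube v.1 + (1 - Frame.cube (-v.2)) + (1 - Frame.cube (-v.1)) + (1 - Frame.cube v.2)
    rw [f1, Int.cast_add, ← Frame.cube_pair, ← Frame.cube_pair]
    ring
  have g2 : Gen R2 := F.gen_R h (AddMonoidHom.fst _ _ + AddMonoidHom.snd _ _) (by norm_num) fun v => by
    rw [hM, Fin.sum_univ_four]
    show _ = 1 - Frame.cube (v.1 + v.2) + (1 - Frame.cube (-v.2 + v.1)) + (1 - Frame.cube (-v.1 + -v.2)) +
      (1 - Frame.cube (v.2 + -v.1))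
    rw [f2, Int.cast_add, ← Frame.cube_pair, ← Frame.cube_pair, neg_sub, neg_add, neg_add_eq_sub v.2 v.1,
      ← sub_eq_add_neg v.2 v.1]
    ring
  have n11 : iq R1 R1 = 5 := iq_eq _ (F.inner_R h (by norm_num) rfl hi1 5 s11)
  have n22 : iq R2 R2 = 5 := iq_eq _ (F.inner_R h (by norm_num) rfl hi2 5 s22)
  have n12 : iq R1 R2 = 4 := iq_eq _ (F.inner_R h (by norm_num) rfl hi2 4 s12)
  have n21 : iq R2 R1 = 4 := by rw [iq_comm g2 g1, n12]
  set I : G → ℂ := fun _ => 1 with hI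
  have gI : Gen I := sg_unit.gen
  have n1I : iq R1 I = 1 := iq_eq _ (F.inner_R_one h (by norm_num) 1 s1)
  have n2I : iq R2 I = 1 := iq_eq _ (F.inner_R_one h (by norm_num) 1 s2)
  have gd : Gen (R1 - R2) := isGeneralizedCharacter_sub g1 g2
  have nd : iq (R1 - R2) (R1 - R2) = 2 := by
    rw [iq_sub_left g1 g2 gd, iq_sub_right g1 g1 g2, iq_sub_right g2 g1 g2, n11, n22, n12, n21]
    norm_num
  obtain ⟨p, q, hp, hq, hpq, hd⟩ := exists_pair gd nd
  have hdI : iq p I + iq q I = 0 := by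
    rw [← iq_add_left hp.gen hq.gen gI, ← hd, iq_sub_left g1 g2 gI, n1I, n2I]
    norm_num
  have hpI : iq p I = 0 := by
    rcases hp.iq_cases sg_unit with e | ⟨e, e'⟩ | ⟨e, e'⟩
    · exact e
    · have : iq q I = 0 := by
        rw [iq_comm hq.gen gI, ← show p = I from e']
        exact hpq
      omega
    · have : iq q I = 0 := by
        rw [iq_comm hq.gen gI, show I = -p by rw [show p = -I from e', neg_neg], iq_neg_left hp.gen hq.gen, hpq,
          neg_zero]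
      omega
  have hqI : iq q I = 0 := by omega
  -- the decomposition
  obtain ⟨U, V, hU, hV, hUV, hUI, hVI, hdiff, hU1⟩ : ∃ U V : G → ℂ, Sg U ∧ Sg V ∧ iq U V = 0 ∧
      iq U I = 0 ∧ iq V I = 0 ∧ R1 - R2 = U - V ∧ iq R1 U = 1 := by
    have hsum : iq R1 p + iq R1 q = 1 := by
      rw [← iq_add_right g1 hp.gen hq.gen, ← hd, iq_sub_right g1 g1 g2, n11, n12]
      norm_num
    have hbes := Orth.bessel (l := [I, p, q]) ⟨by simp [sg_unit, hp, hq, hI], by
      simp [hpq, iq_comm gI hp.gen, iq_comm gI hq.gen, hpI, hqI]⟩ g1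
    simp only [List.map_cons, List.map_nil, List.sum_cons, List.sum_nil, n11, n1I] at hbes
    have hx : iq R1 p = 1 ∨ iq R1 p = 0 := by
      have hq' : iq R1 q = 1 - iq R1 p := by omega
      rw [hq'] at hbes
      have h1 : iq R1 p ≤ 1 := by nlinarith
      have h2 : 0 ≤ iq R1 p := by nlinarith
      omega
    rcases hx with e | e
    · exact ⟨p, -q, hp, hq.neg, by rw [iq_neg_right hp.gen hq.gen, hpq, neg_zero], hpI,
        by rw [iq_neg_left hq.gen gI, hqI, neg_zero], by rw [hd, sub_neg_eq_add], e⟩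
    · exact ⟨q, -p, hq, hp.neg, by rw [iq_neg_right hq.gen hp.gen, iq_comm hq.gen hp.gen, hpq, neg_zero],
        hqI, by rw [iq_neg_left hp.gen gI, hpI, neg_zero], by rw [hd, sub_neg_eq_add, add_comm], by omega⟩
  have hU2 : iq R2 U = 0 := by
    have := congrArg (fun X => iq X U) hdiff
    simp only [iq_sub_left g1 g2 hU.gen, iq_sub_left hU.gen hV.gen hU.gen, hU.iq_self,
      iq_comm hV.gen hU.gen, hUV, hU1] at this
    omega
  have hVd : iq R1 V - iq R2 V = -1 := by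
    have := congrArg (fun X => iq X V) hdiff
    simp only [iq_sub_left g1 g2 hV.gen, iq_sub_left hU.gen hV.gen hV.gen, hV.iq_self, hUV] at this
    omega
  have hV1 : iq R1 V = 0 := by
    have := congrArg (fun X => iq R1 X) hdiff
    simp only [iq_sub_right g1 g1 g2, iq_sub_right g1 hU.gen hV.gen, n11, n12, hU1] at this
    omega
  set Γ := R1 - I - U with hΓ
  have gΓ : Gen Γ := isGeneralizedCharacter_sub (isGeneralizedCharacter_sub g1 gI) hU.gen
  have hΓI : iq Γ I = 0 := by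
    rw [hΓ, iq_sub_left (isGeneralizedCharacter_sub g1 gI) hU.gen gI, iq_sub_left g1 gI gI, n1I,
      sg_unit.iq_self, hUI]
    norm_num
  have hΓU : iq Γ U = 0 := by
    rw [hΓ, iq_sub_left (isGeneralizedCharacter_sub g1 gI) hU.gen hU.gen, iq_sub_left g1 gI hU.gen,
      hU1, hU.iq_self, iq_comm gI hU.gen, hUI]
    norm_num
  have hΓV : iq Γ V = 0 := by
    rw [hΓ, iq_sub_left (isGeneralizedCharacter_sub g1 gI) hU.gen hV.gen, iq_sub_left g1 gI hV.gen,
      hV1, hUV, iq_comm gI hV.gen, hVI]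
    norm_num
  have hΓ3 : iq Γ Γ = 3 := by
    conv_lhs => arg 2; rw [hΓ]
    rw [iq_sub_right gΓ (isGeneralizedCharacter_sub g1 gI) hU.gen, iq_sub_right gΓ g1 gI, hΓI, hΓU,
      hΓ, iq_sub_left (isGeneralizedCharacter_sub g1 gI) hU.gen g1, iq_sub_left g1 gI g1, n11,
      iq_comm gI g1, n1I, iq_comm hU.gen g1, hU1]
    norm_num
  have e1 : R1 = I + U + Γ := by rw [hΓ]; abel
  have e2 : R2 = I + V + Γ := by
    have : R2 = R1 - (U - V) := by rw [← hdiff]; abel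
    rw [this, hΓ]; abel
  obtain ⟨w1, w2, w3, hw1, hw2, hw3, h12, h13, h23, hw⟩ := exists_three gΓ hΓ3
  obtain ⟨i1, i2, i3⟩ := orth_summand hw1 hw2 hw3 h12 h13 h23 sg_unit (hw ▸ hΓI)
  obtain ⟨u1, u2, u3⟩ := orth_summand hw1 hw2 hw3 h12 h13 h23 hU (hw ▸ hΓU)
  obtain ⟨v1, v2, v3⟩ := orth_summand hw1 hw2 hw3 h12 h13 h23 hV (hw ▸ hΓV)
  -- values
  have hconjA : ∀ v, IsConj (F.el (1, 0)) (F.el v) ↔ Oa4 v = true := fun v => by
    rw [F.isConj_iff_orbit h (by decide), hM, orbit_a]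
  have hconjB : ∀ v, kb v = 1 → IsConj (F.el (1, 1)) (F.el v) := fun v hv => by
    rw [F.isConj_iff_orbit h (by decide), hM]
    exact kb_orbit v hv
  have hXa := F.R_comb h (k := ka) (-1) 2 9 comb_a
  have hXb := F.R_comb h (k := kb) 2 (-1) 9 comb_b
  have hXa' : (9 : ℂ) • F.R h ka = ((-1 : ℤ) : ℂ) • R1 + ((2 : ℤ) : ℂ) • R2 := by
    rw [← hXa]; norm_num
  have hXb' : (9 : ℂ) • F.R h kb = ((2 : ℤ) : ℂ) • R1 + ((-1 : ℤ) : ℂ) • R2 := by
    rw [← hXb]; norm_num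
  have hval : ∀ χ : G → ℂ, Gen χ → χ (F.el (1, 0)) = ((-iq R1 χ + 2 * iq R2 χ : ℤ) : ℂ) ∧
      χ (F.el (1, 1)) = ((2 * iq R1 χ - iq R2 χ : ℤ) : ℂ) := by
    intro χ hχ
    refine ⟨F.value_eq h (by norm_num) (k := ka) (fun v => by unfold ka; split_ifs <;> simp) ska
      (fun v hv => (hconjA v).2 (ka_eq v hv)) hχ hXa' _ ?_,
      F.value_eq h (by norm_num) (k := kb) (fun v => by unfold kb; split_ifs <;> simp) skb
      hconjB hχ hXb' _ ?_⟩
    · rw [classInner_add_left, classInner_smul_left, classInner_smul_left, iq_spec g1 hχ, iq_spec g2 hχ]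
      push_cast
      ring
    · rw [classInner_add_left, classInner_smul_left, classInner_smul_left, iq_spec g1 hχ, iq_spec g2 hχ]
      push_cast
      ring
  have hwv : ∀ w, Sg w → iq Γ w = 1 → iq w I = 0 → iq w U = 0 → iq w V = 0 →
      w (F.el (1, 0)) = 1 ∧ w (F.el (1, 1)) = 1 := by
    intro w hw' hg hwI hwU hwV
    have r1 : iq R1 w = 1 := by
      rw [e1, iq_add_left (isGeneralizedCharacter_add gI hU.gen) gΓ hw'.gen, iq_add_left gI hU.gen hw'.gen,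
        iq_comm gI hw'.gen, iq_comm hU.gen hw'.gen, hwI, hwU, hg]
      norm_num
    have r2 : iq R2 w = 1 := by
      rw [e2, iq_add_left (isGeneralizedCharacter_add gI hV.gen) gΓ hw'.gen, iq_add_left gI hV.gen hw'.gen,
        iq_comm gI hw'.gen, iq_comm hV.gen hw'.gen, hwI, hwV, hg]
      norm_num
    obtain ⟨ha, hb⟩ := hval w hw'.gen
    rw [r1, r2] at ha hb
    exact ⟨by rw [ha]; norm_num, by rw [hb]; norm_num⟩
  obtain ⟨a1, b1⟩ := hwv w1 hw1 (by
    rw [hw, iq_add_left (isGeneralizedCharacter_add hw1.gen hw2.gen) hw3.gen hw1.gen,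
      iq_add_left hw1.gen hw2.gen hw1.gen, hw1.iq_self, iq_comm hw2.gen hw1.gen, h12,
      iq_comm hw3.gen hw1.gen, h13]
    norm_num) i1 u1 v1
  obtain ⟨a2, b2⟩ := hwv w2 hw2 (by
    rw [hw, iq_add_left (isGeneralizedCharacter_add hw1.gen hw2.gen) hw3.gen hw2.gen,
      iq_add_left hw1.gen hw2.gen hw2.gen, hw2.iq_self, h12, iq_comm hw3.gen hw2.gen, h23]
    norm_num) i2 u2 v2
  obtain ⟨a3, b3⟩ := hwv w3 hw3 (by
    rw [hw, iq_add_left (isGeneralizedCharacter_add hw1.gen hw2.gen) hw3.gen hw3.gen,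
      iq_add_left hw1.gen hw2.gen hw3.gen, hw3.iq_self, h13, h23]
    norm_num) i3 u3 v3
  obtain ⟨aU, bU⟩ := hval U hU.gen
  rw [hU1, hU2] at aU bU
  obtain ⟨aV, -⟩ := hval V hV.gen
  rw [hV1, show iq R2 V = 1 by omega] at aV
  -- congruences
  have hsum9 : ∀ χ : G → ℂ, Gen χ → ∀ n A B : ℤ, χ 1 = n → χ (F.el (1, 0)) = A → χ (F.el (1, 1)) = B →
      (9 : ℤ) ∣ n + 4 * A + 4 * B := by
    intro χ hχ n A B hn hA hB
    haveI := Fintype.ofFinite S
    obtain ⟨m, hm⟩ := classInner_generalized_int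
      (isGeneralizedCharacter_comp hχ S.subtype) (sg_unit (G := S)).gen
    have hv : ∀ v : V9, χ (F.el v) = ((if v = 0 then n else if Oa4 v then A else B : ℤ) : ℂ) := by
      intro v
      by_cases hv0 : v = 0
      · rw [if_pos hv0, hv0, F.el_zero, hn]
      rw [if_neg hv0]
      by_cases ho : Oa4 v = true
      · rw [if_pos ho, ← hA]
        obtain ⟨g, hg⟩ := isConj_iff.1 ((hconjA v).2 ho)
        rw [← hg, isClassFunction_of_isGeneralized hχ]
      · rw [if_neg ho, ← hB]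
        have hkb : ∀ v : V9, v ≠ 0 → ¬ Oa4 v = true → kb v = 1 := by decide
        obtain ⟨g, hg⟩ := isConj_iff.1 (hconjB v (hkb v hv0 ho))
        rw [← hg, isClassFunction_of_isGeneralized hχ]
    rw [classInner, h.nine, ← (F.equiv h).sum_comp] at hm
    have hm' : (∑ v : V9, χ (F.el v)) = ((9 * m : ℤ) : ℂ) := by
      simp only [map_one, mul_one] at hm
      push_cast
      rw [← hm]
      push_cast
      rw [← mul_assoc, mul_inv_cancel₀ (by norm_num), one_mul]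
      rfl
    simp only [hv] at hm'
    rw [← Int.cast_sum, Int.cast_inj] at hm'
    refine ⟨m, ?_⟩
    rw [← hm']
    have hcase : ∀ v : V9, (v = 0 ∧ ka v = 0 ∧ kb v = 0) ∨ (v ≠ 0 ∧ Oa4 v = true ∧ ka v = 1 ∧ kb v = 0) ∨
        (v ≠ 0 ∧ Oa4 v = false ∧ ka v = 0 ∧ kb v = 1) := by decide
    rw [Finset.sum_congr (s₁ := (Finset.univ : Finset V9)) rfl
      (g := fun v : V9 => n * (if v = 0 then 1 else 0) + A * ka v + B * kb v) fun v _ => ?_,
      Finset.sum_add_distrib, Finset.sum_add_distrib, ← Finset.mul_sum, ← Finset.mul_sum, ← Finset.mul_sum,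
      ska, skb, Finset.sum_ite_eq' Finset.univ (0 : V9) (fun _ => (1 : ℤ)), if_pos (Finset.mem_univ _)]
    · ring
    · rcases hcase v with ⟨e1, e2, e3⟩ | ⟨e1, e0, e2, e3⟩ | ⟨e1, e0, e2, e3⟩
      · subst e1
        rw [if_pos rfl, if_pos rfl, e2, e3]; ring
      · simp [e1, e0, e2, e3]
      · simp [e1, e0, e2, e3]
  obtain ⟨W1, hW10, hW1⟩ := hw1.apply_one_int
  obtain ⟨W2, hW20, hW2⟩ := hw2.apply_one_int
  obtain ⟨W3, hW30, hW3⟩ := hw3.apply_one_int
  obtain ⟨U0, hU00, hU01⟩ := hU.apply_one_int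
  have hV01 : V 1 = U0 := by
    have := congrFun hdiff 1
    rw [Pi.sub_apply, Pi.sub_apply, hR1, hR2, F.R_one h rfl, F.R_one h rfl, sub_self, hU01] at this
    exact (sub_eq_zero.1 this.symm).symm
  have d1 := hsum9 w1 hw1.gen W1 1 1 hW1 (by rw [a1]; norm_num) (by rw [b1]; norm_num)
  have d2 := hsum9 w2 hw2.gen W2 1 1 hW2 (by rw [a2]; norm_num) (by rw [b2]; norm_num)
  have d3 := hsum9 w3 hw3.gen W3 1 1 hW3 (by rw [a3]; norm_num) (by rw [b3]; norm_num)
  have dU := hsum9 U hU.gen U0 (-1) 2 hU01 (by rw [aU]; norm_num) (by rw [bU]; norm_num)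
  have hne : ∀ w (W : ℤ), Sg w → iq w I = 0 → w 1 = W → W ≠ 1 := fun w W hw' hwI hW e =>
    not_unit_value hlin hw' hwI (by rw [hW, e, Int.cast_one])
  -- the class algebra
  have hreal : IsConj (F.el (1, 0)) (F.el (1, 0))⁻¹ := by
    rw [← F.el_neg, hconjA]; decide
  have hq := F.qfun_R h (by norm_num) (va := (1, 0)) (by decide) hreal (f := kb) (by decide)
    (fun v hv hc => by rw [hconjA, kb_not v hv] at hc; simp at hc) hconjA 2 spairs
  have hb := congrArg (qfun (F.el (1, 0))) hXb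
  rw [qfun_smul, hq, qfun_add, qfun_smul, qfun_smul, ← hR1, ← hR2, e1, e2, hw] at hb
  simp only [qfun_add] at hb
  rw [qfun_sg _ sg_unit, qfun_sg _ hU, qfun_sg _ hV, qfun_sg _ hw1,
    qfun_sg _ hw2, qfun_sg _ hw3, a1, a2, a3, aU, aV, hW1, hW2, hW3, hU01, hV01] at hb
  have hG : (0 : ℤ) < (Nat.card G : ℤ) := by exact_mod_cast Nat.card_pos
  have heq : 1 + 1 / (W1 : ℚ) + 1 / (W2 : ℚ) + 1 / (W3 : ℚ) - 2 / (U0 : ℚ) =
      162 / ((Nat.card G : ℤ) : ℚ) := by
    have hC : ((1 + 1 / (W1 : ℚ) + 1 / (W2 : ℚ) + 1 / (W3 : ℚ) - 2 / (U0 : ℚ) : ℚ) : ℂ) =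
        ((162 / ((Nat.card G : ℤ) : ℚ) : ℚ) : ℂ) := by
      push_cast at hb ⊢
      linear_combination -hb
    exact_mod_cast hC
  have := arith_four hG (by omega) (hne w1 W1 hw1 i1 hW1) (by omega) (hne w2 W2 hw2 i2 hW2) (by omega)
    (hne w3 W3 hw3 i3 hW3) (by omega) heq
  omega

end CfsgLib.Char.NineTI
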