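import Cfsg.Agent.Lib.Char.NineTI.Tools

/-!
# Normalizer quotient of order two
-/

set_option autoImplicit false
set_option linter.unusedSectionVars false

namespace CfsgLib.Char.NineTI

open scoped ComplexConjugate
open Cfsg CfsgLib.Char CfsgLib.Char.Signed

universe u

/-- The inversion. -/
def neg2 : Fin 2 → V9 → V9 := ![fun v => v, fun v => -v]

/-- The four functionals. -/
def phi2 : Fin 4 → (V9 →+ ZMod 3) :=
  ![AddMonoidHom.fst _ _, AddMonoidHom.snd _ _, AddMonoidHom.fst _ _ + AddMonoidHom.snd _ _,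
    AddMonoidHom.fst _ _ - AddMonoidHom.snd _ _]

/-- Their values. -/
def pv (k : Fin 4) (v : V9) : ZMod 3 := ![v.1, v.2, v.1 + v.2, v.1 - v.2] k

/-- The four orbit sums. -/
def fk (k : Fin 4) (v : V9) : ℤ := if pv k v = 0 then 0 else 3
/-- Two of the sums. -/
def s01 (v : V9) : ℤ := fk 0 v + fk 1 v
/-- The other two. -/
def s23 (v : V9) : ℤ := fk 2 v + fk 3 v
/-- All four. -/
def sall (v : V9) : ℤ := s01 v + s23 v
/-- The first line. -/
def la (v : V9) : ℤ := if v.2 = 0 ∧ v.1 ≠ 0 then 1 else 0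
/-- The second line. -/
def lb (v : V9) : ℤ := if v.1 = 0 ∧ v.2 ≠ 0 then 1 else 0
/-- Membership in the first line. -/
def Oa2 (v : V9) : Bool := decide (v = (1, 0) ∨ v = (2, 0))

theorem orbit_two : ∀ v, (∃ j, neg2 j (1, 0) = v) ↔ Oa2 v = true := by decide
theorem la_eq : ∀ v, la v = 1 → Oa2 v = true := by decide
theorem lb_orbit : ∀ v, lb v = 1 → ∃ j, neg2 j (0, 1) = v := by decide
theorem lb_not : ∀ v, lb v ≠ 0 → Oa2 v = false := by decide
theorem inv2 : ∀ k j v, fk k (neg2 j v) = fk k v := by decide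
theorem comb_la : ∀ v, 9 * la v = 1 * sall v + (-3) * fk 1 v := by decide
theorem comb_lb : ∀ v, 9 * lb v = 1 * sall v + (-3) * fk 0 v := by decide
theorem sums2 : (∀ k l, ∑ v : V9, fk k v * fk l v = (2 : ℤ) * 9 * (if k = l then 3 else 2)) ∧
    (∀ k, ∑ v : V9, fk k v = (2 : ℤ) * 9 * 1) ∧ (∑ v : V9, la v = 2) ∧ (∑ v : V9, lb v = 2) ∧
    (∑ v : V9, ∑ w : V9, (if Oa2 v && Oa2 w then lb (v + w) else 0) = (2 : ℤ) * 0) := by decide

variable {G : Type u} [Group G] [Fintype G] {S : Subgroup G}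

theorem no_linear_two (h : Hyp S) (F : Frame S 2) (hM : F.M = neg2)
    (hlin : ∀ φ : G →* ℂˣ, φ = 1) : False := by
  classical
  obtain ⟨sff, sf, sla, slb, spairs⟩ := sums2
  have hinv : ∀ k j v, fk k (F.M j v) = fk k v := fun k j v => by rw [hM]; exact inv2 k j v
  obtain ⟨R, hR⟩ : ∃ R : Fin 4 → G → ℂ, ∀ k, R k = F.R h (fk k) := ⟨_, fun _ => rfl⟩
  have hphi : ∀ k v, phi2 k v = pv k v := fun k v => by fin_cases k <;> rfl
  have gR : ∀ k, Gen (R k) := fun k => hR k ▸ F.gen_R h (phi2 k) (by norm_num) fun v => by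
    rw [hM, Fin.sum_univ_two]
    show _ = 1 - Frame.cube (phi2 k v) + (1 - Frame.cube (phi2 k (-v)))
    rw [map_neg, Frame.cube_pair, hphi]
    rfl
  have nR : ∀ k l, iq (R k) (R l) = if k = l then 3 else 2 := fun k l => by
    rw [hR, hR]
    exact iq_eq _ (F.inner_R h (by norm_num) (by fin_cases k <;> rfl) (hinv l) _ (sff k l))
  set I : G → ℂ := fun _ => 1 with hI
  have gI : Gen I := sg_unit.gen
  have nI : ∀ k, iq (R k) I = 1 := fun k => by
    rw [hR]
    exact iq_eq _ (F.inner_R_one h (by norm_num) 1 (sf k))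
  -- the part orthogonal to the principal character
  obtain ⟨P, hP⟩ : ∃ P : Fin 4 → G → ℂ, ∀ k, P k = R k - I := ⟨_, fun _ => rfl⟩
  have gP : ∀ k, Gen (P k) := fun k => hP k ▸ isGeneralizedCharacter_sub (gR k) gI
  have nPI : ∀ k, iq (P k) I = 0 := fun k => by
    rw [hP, iq_sub_left (gR k) gI gI, nI, sg_unit.iq_self]; norm_num
  have nP : ∀ k l, iq (P k) (P l) = if k = l then 2 else 1 := fun k l => by
    rw [hP, hP, iq_sub_left (gR k) gI (isGeneralizedCharacter_sub (gR l) gI), iq_sub_right (gR k) (gR l) gI,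
      iq_sub_right gI (gR l) gI, nR, nI, iq_comm gI (gR l), nI, sg_unit.iq_self]
    split_ifs <;> norm_num
  have pick : ∀ k a b, Sg a → Sg b → iq a b = 0 → iq (P k) a + iq (P k) b = 1 →
      (iq (P k) a = 1 ∧ iq (P k) b = 0) ∨ (iq (P k) a = 0 ∧ iq (P k) b = 1) := by
    intro k a b ha hb hab hs
    have hbes := Orth.bessel (l := [a, b]) ⟨by simp [ha, hb], by simp [hab]⟩ (gP k)
    simp only [List.map_cons, List.map_nil, List.sum_cons, List.sum_nil, nP, ↓reduceIte] at hbes
    have e : iq (P k) b = 1 - iq (P k) a := by omega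
    rw [e] at hbes ⊢
    have h1 : iq (P k) a ≤ 1 := by nlinarith
    have h2 : 0 ≤ iq (P k) a := by nlinarith
    omega
  obtain ⟨a, b, ha, hb, hab, hPab⟩ := exists_pair (gP 0) (by rw [nP, if_pos rfl])
  have hsum : ∀ k, k ≠ 0 → iq (P k) a + iq (P k) b = 1 := fun k hk => by
    rw [← iq_add_right (gP k) ha.gen hb.gen, ← hPab, nP, if_neg hk]
  -- a common constituent
  obtain ⟨w, hw, hwall⟩ : ∃ w, Sg w ∧ ∀ k, iq (P k) w = 1 := by
    have key : ∀ a b, Sg a → Sg b → iq a b = 0 → P 0 = a + b → ∀ i j, i ≠ 0 → j ≠ 0 → i ≠ j →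
        iq (P i) a = 1 → iq (P i) b = 0 → iq (P j) a = 1 → ∀ k, iq (P k) a = 1 := by
      intro a b ha hb hab hPab i j hi hj hij hia hib hja k
      by_cases hk : k = 0
      · subst hk
        rw [hPab, iq_add_left ha.gen hb.gen ha.gen, ha.iq_self, iq_comm hb.gen ha.gen, hab]; norm_num
      by_cases hki : k = i
      · rw [hki, hia]
      by_cases hkj : k = j
      · rw [hkj, hja]
      have hs : iq (P k) a + iq (P k) b = 1 := by
        rw [← iq_add_right (gP k) ha.gen hb.gen, ← hPab, nP, if_neg hk]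
      rcases pick k a b ha hb hab hs with ⟨e, -⟩ | ⟨ea, eb⟩
      · exact e
      exfalso
      have sg_rest : ∀ l, iq (P l) a = 1 → Sg (P l - a) := fun l hl =>
        Sg.of_iq (isGeneralizedCharacter_sub (gP l) ha.gen) (by
          rw [iq_sub_left (gP l) ha.gen (isGeneralizedCharacter_sub (gP l) ha.gen),
            iq_sub_right (gP l) (gP l) ha.gen, iq_sub_right ha.gen (gP l) ha.gen, nP, if_pos rfl,
            hl, iq_comm ha.gen (gP l), hl, ha.iq_self]
          norm_num)
      have hc := sg_rest i hia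
      have hd := sg_rest j hja
      have hcd : iq (P i - a) (P j - a) = 0 := by
        rw [iq_sub_left (gP i) ha.gen hd.gen, iq_sub_right (gP i) (gP j) ha.gen,
          iq_sub_right ha.gen (gP j) ha.gen, nP, if_neg hij, hia, iq_comm ha.gen (gP j), hja, ha.iq_self]
        norm_num
      have hjb : iq (P j) b = 0 := by
        have : iq (P j) a + iq (P j) b = 1 := by
          rw [← iq_add_right (gP j) ha.gen hb.gen, ← hPab, nP, if_neg hj]
        omega
      have hbc : iq b (P i - a) = 0 := by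
        rw [iq_sub_right hb.gen (gP i) ha.gen, iq_comm hb.gen (gP i), hib, iq_comm hb.gen ha.gen, hab]
        norm_num
      have hbd : iq b (P j - a) = 0 := by
        rw [iq_sub_right hb.gen (gP j) ha.gen, iq_comm hb.gen (gP j), hjb, iq_comm hb.gen ha.gen, hab]
        norm_num
      have hbes := Orth.bessel (l := [b, P i - a, P j - a]) ⟨by simp [hb, hc, hd], by simp [hbc, hbd, hcd]⟩
        (gP k)
      simp only [List.map_cons, List.map_nil, List.sum_cons, List.sum_nil,
        iq_sub_right (gP k) (gP i) ha.gen, iq_sub_right (gP k) (gP j) ha.gen, nP, if_neg hki, if_neg hkj,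
        if_pos rfl, ea, eb] at hbes
      norm_num at hbes
    rcases pick 1 a b ha hb hab (hsum 1 (by decide)) with ⟨x1, y1⟩ | ⟨x1, y1⟩ <;>
      rcases pick 2 a b ha hb hab (hsum 2 (by decide)) with ⟨x2, y2⟩ | ⟨x2, y2⟩ <;>
        rcases pick 3 a b ha hb hab (hsum 3 (by decide)) with ⟨x3, y3⟩ | ⟨x3, y3⟩
    all_goals first
      | exact ⟨a, ha, key a b ha hb hab hPab 1 2 (by decide) (by decide) (by decide) x1 y1 x2⟩
      | exact ⟨a, ha, key a b ha hb hab hPab 1 3 (by decide) (by decide) (by decide) x1 y1 x3⟩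
      | exact ⟨a, ha, key a b ha hb hab hPab 2 3 (by decide) (by decide) (by decide) x2 y2 x3⟩
      | exact ⟨b, hb, key b a hb ha (by rw [iq_comm hb.gen ha.gen, hab]) (by rw [hPab, add_comm]) 1 2
          (by decide) (by decide) (by decide) y1 x1 y2⟩
      | exact ⟨b, hb, key b a hb ha (by rw [iq_comm hb.gen ha.gen, hab]) (by rw [hPab, add_comm]) 1 3
          (by decide) (by decide) (by decide) y1 x1 y3⟩
      | exact ⟨b, hb, key b a hb ha (by rw [iq_comm hb.gen ha.gen, hab]) (by rw [hPab, add_comm]) 2 3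
          (by decide) (by decide) (by decide) y2 x2 y3⟩
  have hwI : iq w I = 0 := by
    rcases hw.iq_cases sg_unit with e | ⟨-, e'⟩ | ⟨-, e'⟩
    · exact e
    · have h1 := hwall 0
      rw [show w = I from e', nPI] at h1
      omega
    · have h1 := hwall 0
      rw [show w = -I from e', iq_neg_right (gP 0) gI, nPI] at h1
      omega
  obtain ⟨u, hu⟩ : ∃ u : Fin 4 → G → ℂ, ∀ k, u k = P k - w := ⟨_, fun _ => rfl⟩
  have gu : ∀ k, Gen (u k) := fun k => hu k ▸ isGeneralizedCharacter_sub (gP k) hw.gen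
  have hRu : ∀ k, R k = I + w + u k := fun k => by rw [hu, hP]; abel
  have nu : ∀ k l, iq (R k) (u l) = if k = l then 1 else 0 := fun k l => by
    rw [hu, iq_sub_right (gR k) (gP l) hw.gen, hP, iq_sub_right (gR k) (gR l) gI, nR, nI,
      show iq (R k) w = iq (P k) w from by rw [hP, iq_sub_left (gR k) gI hw.gen, iq_comm gI hw.gen, hwI, sub_zero],
      hwall]
    split_ifs <;> norm_num
  have su : ∀ k, Sg (u k) := fun k => Sg.of_iq (gu k) (by
    rw [hu, iq_sub_left (gP k) hw.gen (isGeneralizedCharacter_sub (gP k) hw.gen),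
      iq_sub_right (gP k) (gP k) hw.gen, iq_sub_right hw.gen (gP k) hw.gen, nP, if_pos rfl, hwall,
      iq_comm hw.gen (gP k), hwall, hw.iq_self]
    norm_num)
  have nRw : ∀ k, iq (R k) w = 1 := fun k => by
    rw [← hwall k, hP, iq_sub_left (gR k) gI hw.gen, iq_comm gI hw.gen, hwI, sub_zero]
  -- values at the two elements
  have hall : F.R h sall = R 0 + R 1 + R 2 + R 3 := by
    have a1 := F.R_comb h (f := fk 0) (g := fk 1) (k := s01) 1 1 1 fun v => by simp [s01]
    have a2 := F.R_comb h (f := fk 2) (g := fk 3) (k := s23) 1 1 1 fun v => by simp [s23]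
    have a3 := F.R_comb h (f := s01) (g := s23) (k := sall) 1 1 1 fun v => by simp [sall]
    simp only [Int.cast_one, one_smul] at a1 a2 a3
    rw [a3, a1, a2, hR, hR, hR, hR]
    abel
  have hXa : (9 : ℂ) • F.R h la = (R 0 + R 1 + R 2 + R 3) + ((-3 : ℤ) : ℂ) • R 1 := by
    rw [← hall, hR]
    have := F.R_comb h (k := la) 1 (-3) 9 comb_la
    rw [Int.cast_one, one_smul] at this
    rw [← this]; norm_num
  have hXb : (9 : ℂ) • F.R h lb = (R 0 + R 1 + R 2 + R 3) + ((-3 : ℤ) : ℂ) • R 0 := by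
    rw [← hall, hR]
    have := F.R_comb h (k := lb) 1 (-3) 9 comb_lb
    rw [Int.cast_one, one_smul] at this
    rw [← this]; norm_num
  have hconj : ∀ v, IsConj (F.el (1, 0)) (F.el v) ↔ Oa2 v = true := fun v => by
    rw [F.isConj_iff_orbit h (by decide), hM, orbit_two]
  have hval : ∀ χ : G → ℂ, Gen χ → χ (F.el (1, 0)) =
      ((iq (R 0) χ + iq (R 1) χ + iq (R 2) χ + iq (R 3) χ - 3 * iq (R 1) χ : ℤ) : ℂ) := by
    intro χ hχ
    refine F.value_eq h (by norm_num) (k := la) (fun v => by unfold la; split_ifs <;> simp) sla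
      (fun v hv => (hconj v).2 (la_eq v hv)) hχ hXa _ ?_
    rw [classInner_add_left, classInner_add_left, classInner_add_left, classInner_add_left,
      classInner_smul_left, iq_spec (gR 0) hχ, iq_spec (gR 1) hχ, iq_spec (gR 2) hχ, iq_spec (gR 3) hχ]
    push_cast
    ring
  have hreal : IsConj (F.el (1, 0)) (F.el (1, 0))⁻¹ := by
    rw [← F.el_neg, hconj]; decide
  have hq := F.qfun_R h (by norm_num) (va := (1, 0)) (by decide) hreal (f := lb) (by decide)
    (fun v hv hc => by rw [hconj, lb_not v hv] at hc; simp at hc) hconj 0 spairs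
  rw [Int.cast_zero, mul_zero, zero_div] at hq
  have hb' := congrArg (qfun (F.el (1, 0))) hXb
  rw [qfun_smul, hq, mul_zero] at hb'
  have wa : w (F.el (1, 0)) = 1 := by rw [hval w hw.gen]; simp [nRw]
  have ua : ∀ k, u k (F.el (1, 0)) = ((1 - if k = 1 then 3 else 0 : ℤ) : ℂ) := fun k => by
    rw [hval _ (gu k)]
    congr 1
    fin_cases k <;> simp [nu]
  simp only [qfun_add, qfun_smul, hRu, qfun_sg _ (show Sg I from sg_unit), qfun_sg _ hw, qfun_sg _ (su _), wa, ua, Fin.reduceEq, ↓reduceIte] at hb'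
  simp only [hI] at hb'
  obtain ⟨W, hW0, hW⟩ := hw.apply_one_int
  have hU : ∀ k, u k 1 = ((-1 - W : ℤ) : ℂ) := by
    intro k
    have e0 : F.R h (fk k) 1 = 0 := F.R_one h (by fin_cases k <;> rfl)
    rw [← hR, hRu, Pi.add_apply, Pi.add_apply, hW] at e0
    push_cast
    linear_combination e0
  have hW1 : W ≠ 1 := fun e => not_unit_value hlin hw hwI (by rw [hW, e, Int.cast_one])
  have hWU : (-1 - W : ℤ) ≠ 0 := by
    intro e
    exact (su 0).apply_one_ne (by rw [hU, e, Int.cast_zero])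
  simp only [hW, hU] at hb'
  norm_num at hb'
  have hWc : (W : ℂ) ≠ 0 := by exact_mod_cast hW0
  have hUc : (-1 - W : ℂ) ≠ 0 := by exact_mod_cast hWU
  field_simp at hb'
  have hsq : ((W : ℂ) - 1) * ((W : ℂ) - 1) = 0 := by linear_combination hb'
  have : (W : ℂ) = 1 := sub_eq_zero.1 (mul_self_eq_zero.1 hsq)
  exact hW1 (by exact_mod_cast this)

end CfsgLib.Char.NineTI
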