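import Cfsg.Agent.Lib.Char.NineTI.Four
import Cfsg.Agent.Lib.Char.NineTI.Two
import Cfsg.Agent.S0497
import Mathlib.GroupTheory.Transfer

/-!
# Recognition of the alternating group of degree six
-/

set_option autoImplicit false
set_option linter.unusedSectionVars false

namespace CfsgLib.Char.NineTI

open Cfsg CfsgLib.Char

universe u

variable {G : Type u} [Group G] [Finite G] {S : Subgroup G}

/-- Coordinates attached to two independent elements. -/
theorem exists_el (h : Hyp S) {a b : G} (ha : a ∈ S) (hb : b ∈ S) (ha1 : a ≠ 1)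
    (hab : b ∉ Subgroup.zpowers a) :
    ∃ el : V9 → G, (∀ v, el v ∈ S) ∧ (∀ v w, el (v + w) = el v * el w) ∧ Function.Injective el ∧
      (∀ v, el v = a ^ v.1.val * b ^ v.2.val) := by
  have hadd : ∀ v w : V9, a ^ (v + w).1.val * b ^ (v + w).2.val =
      (a ^ v.1.val * b ^ v.2.val) * (a ^ w.1.val * b ^ w.2.val) := by
    intro v w
    have hp : ∀ c ∈ S, ∀ i j : ZMod 3, c ^ (i + j).val = c ^ i.val * c ^ j.val := fun c hc i j => by
      rw [← pow_add]
      refine pow_eq_pow_of_modEq ?_ (h.exp c hc)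
      rw [ZMod.val_add]
      exact Nat.mod_modEq _ _
    rw [Prod.fst_add, Prod.snd_add, hp a ha, hp b hb, mul_assoc (a ^ v.1.val) (b ^ v.2.val),
      ← mul_assoc (b ^ v.2.val) (a ^ w.1.val), h.comm (S.pow_mem hb _) (S.pow_mem ha _)]
    group
  refine ⟨_, fun v => S.mul_mem (S.pow_mem ha _) (S.pow_mem hb _), hadd, ?_, fun v => rfl⟩
  have hthree : ∀ k : ZMod 3, k = 0 ∨ k = 1 ∨ k = 2 := by decide
  haveI : Fact (Nat.Prime 3) := ⟨Nat.prime_three⟩
  have hoa : orderOf a = 3 := orderOf_eq_prime (h.exp a ha) ha1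
  have hker : ∀ v : V9, a ^ v.1.val * b ^ v.2.val = 1 → v = 0 := by
    intro v hv
    have hm : b ^ v.2.val ∈ Subgroup.zpowers a := by
      rw [eq_inv_of_mul_eq_one_right hv]
      exact Subgroup.inv_mem _ (Subgroup.pow_mem _ (Subgroup.mem_zpowers a) _)
    have h2 : v.2 = 0 := by
      by_contra hne
      rcases hthree v.2 with e | e | e
      · exact hne e
      · rw [e, show (1 : ZMod 3).val = 1 from rfl, pow_one] at hm
        exact hab hm
      · rw [e, show (2 : ZMod 3).val = 2 from rfl] at hm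
        refine hab ?_
        have : b = (b ^ 2)⁻¹ := eq_inv_of_mul_eq_one_left (by rw [← pow_succ', h.exp b hb])
        rw [this]
        exact Subgroup.inv_mem _ hm
    rw [h2, ZMod.val_zero, pow_zero, mul_one, ← orderOf_dvd_iff_pow_eq_one, hoa] at hv
    have h1 : v.1 = 0 := (ZMod.val_eq_zero _).1 (Nat.eq_zero_of_dvd_of_lt hv (ZMod.val_lt _))
    exact Prod.ext h1 h2
  intro v w e
  have : v - w = 0 := hker (v - w) (by
    have e' := hadd (v - w) w
    rw [sub_add_cancel] at e'
    exact left_eq_mul.1 (e.symm.trans e' |>.trans rfl |> fun q => by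
      rw [← h.comm (S.mul_mem (S.pow_mem ha _) (S.pow_mem hb _))
        (S.mul_mem (S.pow_mem ha _) (S.pow_mem hb _))] at q
      exact q))
  exact sub_eq_zero.1 this

/-- An element of the normalizer squaring into `S` inverts `S`. -/
theorem inverts (h : Hyp S) {s : G} (hs : s ∈ Subgroup.normalizer (S : Set G)) (hsS : s ∉ S)
    (hs2 : s * s ∈ S) {b : G} (hb : b ∈ S) : s * b * s⁻¹ = b⁻¹ := by
  have hb' : s * b * s⁻¹ ∈ S := (Subgroup.mem_normalizer_iff.1 hs b).1 hb
  refine eq_inv_of_mul_eq_one_left ?_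
  by_contra hne
  refine hsS (h.mem_of_comm (S.mul_mem hb' hb) hne ?_)
  have e : s * (s * b * s⁻¹) * s⁻¹ = b := by
    calc s * (s * b * s⁻¹) * s⁻¹ = (s * s) * b * (s * s)⁻¹ := by group
      _ = b := by rw [h.comm hs2 hb, mul_inv_cancel_right]
  calc s * (s * b * s⁻¹ * b) = (s * (s * b * s⁻¹) * s⁻¹) * (s * b * s⁻¹) * s := by group
    _ = s * b * s⁻¹ * b * s := by rw [e, h.comm hb hb']

/-- A simple non-abelian group has no nontrivial linear character. -/
theorem lin_trivial [IsSimpleGroup G] (hG : ¬ IsMulCommutative G) (φ : G →* ℂˣ) : φ = 1 := by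
  rcases IsSimpleGroup.eq_bot_or_eq_top_of_normal φ.ker inferInstance with e | e
  · refine absurd ⟨⟨fun a b => ?_⟩⟩ hG
    refine (MonoidHom.ker_eq_bot_iff _).1 e ?_
    rw [map_mul, map_mul, mul_comm]
  · exact MonoidHom.ext fun g => MonoidHom.mem_ker.1 (e ▸ Subgroup.mem_top g)

/-- Orbits of the normalizer have length the index. -/
theorem orbit_full (h : Hyp S) (h8 : (S.subgroupOf (Subgroup.normalizer (S : Set G))).index = 8) {a x : G}
    (ha : a ∈ S) (ha1 : a ≠ 1) (hx : x ∈ S) (hx1 : x ≠ 1) : IsConj a x := by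
  classical
  set N := Subgroup.normalizer (S : Set G) with hN
  let f : N ⧸ S.subgroupOf N → {y : S // y ≠ 1} := fun q => ⟨⟨(q.out : G) * a * (q.out : G)⁻¹,
    (Subgroup.mem_normalizer_iff.1 q.out.2 a).1 ha⟩, fun e => ha1 (conj_eq_one_iff.1 (congrArg Subtype.val e))⟩
  have hf : Function.Injective f := by
    intro p q e
    have e' : (p.out : G) * a * (p.out : G)⁻¹ = (q.out : G) * a * (q.out : G)⁻¹ :=
      congrArg (fun z => ((z.1 : S) : G)) e
    rw [← QuotientGroup.out_eq' p, ← QuotientGroup.out_eq' q]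
    refine QuotientGroup.eq.2 (Subgroup.mem_subgroupOf.2 ?_)
    refine h.mem_of_comm ha ha1 ?_
    calc ((p.out : G))⁻¹ * (q.out : G) * a
        = ((p.out : G))⁻¹ * ((q.out : G) * a * (q.out : G)⁻¹) * (q.out : G) := by group
      _ = a * (((p.out : G))⁻¹ * (q.out : G)) := by rw [← e']; group
  haveI := Fintype.ofFinite S
  have hcard : Nat.card {y : S // y ≠ 1} = 8 := by
    rw [Nat.card_eq_fintype_card, Fintype.card_subtype_compl, Fintype.card_subtype_eq,
      ← Nat.card_eq_fintype_card, h.nine]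
  have hbij := (Nat.bijective_iff_injective_and_card f).2 ⟨hf, by rw [hcard, ← Subgroup.index_eq_card, h8]⟩
  obtain ⟨q, hq⟩ := hbij.2 ⟨⟨x, hx⟩, fun e => hx1 (congrArg Subtype.val e)⟩
  exact isConj_iff.2 ⟨_, congrArg (fun z => ((z.1 : S) : G)) hq⟩

/-- The normalizer is four times as large as `S` and the order is bounded. -/
theorem normalizer_four [IsSimpleGroup G] (h : Hyp S) (hG : ¬ IsMulCommutative G) (P : Sylow 3 G)
    (hP : (P : Subgroup G) = S)
    (hclasses : ∃ a ∈ S, ∃ b ∈ S, a ≠ 1 ∧ b ≠ 1 ∧ ¬ IsConj a b) :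
    Nat.card (Subgroup.normalizer (S : Set G)) = 36 ∧ Nat.card G ≤ 720 := by
  classical
  haveI : Fact (Nat.Prime 3) := ⟨Nat.prime_three⟩
  haveI := Fintype.ofFinite G
  have hlin := lin_trivial hG
  set N := Subgroup.normalizer (S : Set G) with hN
  obtain ⟨x, hx, x', hx', hx1, hx1', hne⟩ := hclasses
  by_cases hfix : ∀ n ∈ N, n * x * n⁻¹ ∈ Subgroup.zpowers x
  · exfalso
    have hpm : ∀ n ∈ N, n * x * n⁻¹ = x ∨ n * x * n⁻¹ = x⁻¹ := by
      intro n hn
      obtain ⟨k, hk, e⟩ : ∃ k < 3, x ^ k = n * x * n⁻¹ := by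
        have hm := hfix n hn
        rw [mem_zpowers_iff_mem_range_orderOf, Finset.mem_image] at hm
        obtain ⟨k, hk, e⟩ := hm
        exact ⟨k, by rw [Finset.mem_range, orderOf_eq_prime (h.exp x hx) hx1] at hk; exact hk, e⟩
      interval_cases k
      · rw [pow_zero] at e
        exact absurd (conj_eq_one_iff.1 e.symm) hx1
      · exact Or.inl (by rw [← e, pow_one])
      · refine Or.inr ?_
        rw [← e]
        exact eq_inv_of_mul_eq_one_left (by rw [← pow_succ, h.exp x hx])
    by_cases hall : ∀ n ∈ N, n * x * n⁻¹ = x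
    · have hNS : N ≤ Subgroup.centralizer (S : Set G) := fun n hn => by
        rw [Subgroup.mem_centralizer_iff]
        intro p hp
        exact h.comm hp (h.mem_of_comm hx hx1 (mul_inv_eq_iff_eq_mul.1 (hall n hn)))
      have hcomp := MonoidHom.ker_transferSylow_isComplement' P (by rw [show (P : Set G) = (S : Set G) by rw [← hP]; rfl]; exact hNS)
      rcases IsSimpleGroup.eq_bot_or_eq_top_of_normal (MonoidHom.transferSylow P _).ker inferInstance
        with e | e
      · rw [e, Subgroup.isComplement'_bot_left, hP] at hcomp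
        exact hG ⟨⟨fun p q => h.comm (hcomp ▸ Subgroup.mem_top p) (hcomp ▸ Subgroup.mem_top q)⟩⟩
      · rw [e, Subgroup.isComplement'_top_left, hP] at hcomp
        exact hx1 (Subgroup.mem_bot.1 (hcomp ▸ hx))
    push Not at hall
    obtain ⟨s, hsN, hs⟩ := hall
    have hsx := (hpm s hsN).resolve_left hs
    have hsS : s ∉ S := fun hm => hs (by rw [h.comm hm hx, mul_inv_cancel_right])
    have hs2 : s * s ∈ S := h.mem_of_comm hx hx1 (by
      calc s * s * x = s * (s * x * s⁻¹) * s := by group
        _ = (s * x * s⁻¹)⁻¹ * (s * s) := by rw [hsx]; nth_rewrite 2 [← hsx]; group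
        _ = x * (s * s) := by rw [hsx, inv_inv])
    obtain ⟨y, hyS, hy⟩ : ∃ y ∈ S, y ∉ Subgroup.zpowers x := by
      by_contra hc
      push Not at hc
      have := Subgroup.card_le_of_le (show S ≤ Subgroup.zpowers x from hc)
      rw [h.nine, Nat.card_zpowers, orderOf_eq_prime (h.exp x hx) hx1] at this
      omega
    obtain ⟨el, hmem, hadd, hinj, -⟩ := exists_el h hx hyS hx1 hy
    let F : Frame S 2 :=
      { el := el, M := neg2, rep := ![1, s], mem := hmem, add := hadd, inj := hinj
        act := fun j v => by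
          fin_cases j
          · show 1 * el v * 1⁻¹ = el v
            group
          · show s * el v * s⁻¹ = el (-v)
            rw [inverts h hsN hsS hs2 (hmem v)]
            refine inv_eq_of_mul_eq_one_right ?_
            have h0 := hadd 0 0
            rw [add_zero] at h0
            rw [← hadd, add_neg_cancel]
            exact left_eq_mul.1 h0
        repN := fun j => by
          fin_cases j
          · exact N.one_mem
          · exact hsN
        cover := fun z hz => by
          rcases hpm z hz with e | e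
          · exact ⟨0, by
              show (1 : G)⁻¹ * z ∈ S
              rw [inv_one, one_mul]
              exact h.mem_of_comm hx hx1 (mul_inv_eq_iff_eq_mul.1 e)⟩
          · refine ⟨1, h.mem_of_comm hx hx1 ?_⟩
            show s⁻¹ * z * x = x * (s⁻¹ * z)
            calc s⁻¹ * z * x = s⁻¹ * (z * x * z⁻¹) * z := by group
              _ = s⁻¹ * (s * x * s⁻¹) * z := by rw [e, hsx]
              _ = x * (s⁻¹ * z) := by group
        distinct := fun i j hij => by
          fin_cases i <;> fin_cases j <;> simp_all }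
    exact no_linear_two h F rfl hlin
  push Not at hfix
  obtain ⟨t, htN, ht⟩ := hfix
  set x₁ := t * x * t⁻¹ with hx₁
  have hx₁S : x₁ ∈ S := (Subgroup.mem_normalizer_iff.1 htN x).1 hx
  obtain ⟨el, hmem, hadd, hinj, hel⟩ := exists_el h hx hx₁S hx1 ht
  have he8 : (S.subgroupOf N).index ∣ 8 := by
    have := ca_index_dvd S h.cent
    rwa [h.nine] at this
  have htS : t ∉ S := fun hm => ht (by
    rw [hx₁, h.comm hm hx, mul_inv_cancel_right]
    exact Subgroup.mem_zpowers x)
  have ht2 : t * t ∉ S := fun hm => ht (by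
    rw [hx₁, inverts h htN htS hm hx]
    exact Subgroup.inv_mem _ (Subgroup.mem_zpowers x))
  have he : (S.subgroupOf N).index = 4 := by
    haveI : (S.subgroupOf N).Normal := Subgroup.normal_subgroupOf_iff_le_normalizer (Subgroup.le_normalizer) |>.2 le_rfl
    set q : N ⧸ S.subgroupOf N := ((⟨t, htN⟩ : N) : N ⧸ S.subgroupOf N) with hq
    have h1 : orderOf q ∣ (S.subgroupOf N).index := by
      rw [Subgroup.index_eq_card]; exact orderOf_dvd_natCard q
    have hq2 : ¬ orderOf q ∣ 2 := by
      intro hd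
      rw [orderOf_dvd_iff_pow_eq_one, pow_two, hq, ← QuotientGroup.mk_mul, QuotientGroup.eq_one_iff] at hd
      exact ht2 hd
    have h8 : (S.subgroupOf N).index ≠ 8 := fun e8 => hne (orbit_full h e8 hx hx1 hx' hx1')
    have hle := Nat.le_of_dvd (by norm_num) he8
    have h2 : ¬ (S.subgroupOf N).index ∣ 2 := fun hd => hq2 (h1.trans hd)
    interval_cases (S.subgroupOf N).index <;> omega
  haveI : (S.subgroupOf N).Normal := Subgroup.normal_subgroupOf_iff_le_normalizer (Subgroup.le_normalizer) |>.2 le_rfl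
  have hdist : ∀ i j : Fin 4, (t ^ i.val)⁻¹ * t ^ j.val ∈ S → i = j := by
    intro i j hij
    rcases lt_trichotomy i.val j.val with hlt | heq | hgt
    · exfalso
      rw [show t ^ j.val = t ^ i.val * t ^ (j.val - i.val) by rw [← pow_add, Nat.add_sub_cancel' hlt.le],
        inv_mul_cancel_left] at hij
      obtain ⟨d, hd, hd1⟩ : ∃ d, d = j.val - i.val ∧ (d = 1 ∨ d = 2 ∨ d = 3) :=
        ⟨_, rfl, by have := j.2; omega⟩
      rw [← hd] at hij
      rcases hd1 with rfl | rfl | rfl
      · exact htS (by rwa [pow_one] at hij)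
      · exact ht2 (by rwa [pow_two] at hij)
      · have h4 : t ^ 4 ∈ S := by
          have := Subgroup.pow_index_mem (S.subgroupOf N) (⟨t, htN⟩ : N)
          rw [he] at this
          exact this
        refine htS ?_
        have := S.mul_mem (S.inv_mem hij) h4
        rwa [show (t ^ 3)⁻¹ * t ^ 4 = t by rw [pow_succ t 3, inv_mul_cancel_left]] at this
    · exact Fin.ext heq
    · exfalso
      rw [show t ^ i.val = t ^ j.val * t ^ (i.val - j.val) by rw [← pow_add, Nat.add_sub_cancel' hgt.le],
        mul_inv_rev, inv_mul_cancel_right] at hij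
      have hij' := S.inv_mem hij
      rw [inv_inv] at hij'
      obtain ⟨d, hd, hd1⟩ : ∃ d, d = i.val - j.val ∧ (d = 1 ∨ d = 2 ∨ d = 3) :=
        ⟨_, rfl, by have := i.2; omega⟩
      rw [← hd] at hij'
      rcases hd1 with rfl | rfl | rfl
      · exact htS (by rwa [pow_one] at hij')
      · exact ht2 (by rwa [pow_two] at hij')
      · have h4 : t ^ 4 ∈ S := by
          have := Subgroup.pow_index_mem (S.subgroupOf N) (⟨t, htN⟩ : N)
          rw [he] at this
          exact this
        refine htS ?_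
        have := S.mul_mem (S.inv_mem hij') h4
        rwa [show (t ^ 3)⁻¹ * t ^ 4 = t by rw [pow_succ t 3, inv_mul_cancel_left]] at this
  have hcover : ∀ z ∈ N, ∃ j : Fin 4, (t ^ j.val)⁻¹ * z ∈ S := by
    intro z hz
    let f : Fin 4 → N ⧸ S.subgroupOf N := fun j => ((⟨t, htN⟩ : N) ^ j.val : N)
    have hf : Function.Injective f := fun i j e => hdist i j (by
      have := QuotientGroup.eq.1 e
      simpa [Subgroup.mem_subgroupOf] using this)
    have hbij := (Nat.bijective_iff_injective_and_card f).2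
      ⟨hf, by rw [Nat.card_fin, ← Subgroup.index_eq_card, he]⟩
    obtain ⟨j, hj⟩ := hbij.2 ((⟨z, hz⟩ : N) : N ⧸ S.subgroupOf N)
    refine ⟨j, ?_⟩
    have := QuotientGroup.eq.1 hj
    simpa [Subgroup.mem_subgroupOf] using this
  have hinvS : ∀ b ∈ S, t * t * b * (t * t)⁻¹ = b⁻¹ := fun b hb => inverts h (N.mul_mem htN htN) ht2 (by
    have := Subgroup.pow_index_mem (S.subgroupOf N) (⟨t, htN⟩ : N)
    rw [he] at this
    have h4 : t ^ 4 ∈ S := this
    rwa [show t ^ 4 = t * t * (t * t) by simp only [pow_succ, pow_zero, one_mul, mul_assoc]] at h4) hb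
  have hstep : ∀ v : V9, t * el v * t⁻¹ = el (-v.2, v.1) := by
    intro v
    have e2 : t * x₁ * t⁻¹ = x⁻¹ := by
      rw [← hinvS x hx, hx₁]; group
    have hneg : x ^ (-v.2).val = (x⁻¹) ^ v.2.val := by
      rw [inv_pow, eq_inv_iff_mul_eq_one, ← pow_add]
      refine (orderOf_dvd_iff_pow_eq_one).1 ?_
      rw [orderOf_eq_prime (h.exp x hx) hx1]
      exact (CharP.cast_eq_zero_iff (ZMod 3) 3 _).1 (by push_cast; simp)
    rw [hel, hel, show t * (x ^ v.1.val * x₁ ^ v.2.val) * t⁻¹ =
      (t * x ^ v.1.val * t⁻¹) * (t * x₁ ^ v.2.val * t⁻¹) by group, ← conj_pow, ← conj_pow, e2, ← hx₁, hneg,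
      h.comm (S.pow_mem hx₁S _) (S.pow_mem (S.inv_mem hx) _)]
  have hstep2 : ∀ v : V9, t ^ 2 * el v * (t ^ 2)⁻¹ = el (-v.1, -v.2) := fun v => by
    rw [pow_two, show t * t * el v * (t * t)⁻¹ = t * (t * el v * t⁻¹) * t⁻¹ by group, hstep, hstep]
  let F : Frame S 4 :=
    { el := el, M := rot4, rep := fun j => t ^ j.val, mem := hmem, add := hadd, inj := hinj
      act := fun j v => by
        fin_cases j
        · show t ^ 0 * el v * (t ^ 0)⁻¹ = el v
          group
        · show t ^ 1 * el v * (t ^ 1)⁻¹ = el (-v.2, v.1)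
          rw [pow_one, hstep]
        · exact hstep2 v
        · show t ^ 3 * el v * (t ^ 3)⁻¹ = el (v.2, -v.1)
          rw [show t ^ 3 * el v * (t ^ 3)⁻¹ = t * (t ^ 2 * el v * (t ^ 2)⁻¹) * t⁻¹ by group, hstep2, hstep,
            neg_neg]
      repN := fun j => Subgroup.pow_mem _ htN _
      cover := hcover
      distinct := hdist }
  exact ⟨F.card_cover h, card_le_of_four h F rfl hlin⟩

/-- The recognition theorem. -/
theorem recognize_alt_six [IsSimpleGroup G] (P : Sylow 3 G) (hP : (P : Subgroup G) = S)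
    (hcard : Nat.card S = 9) (hexp : ∀ a ∈ S, a ^ 3 = 1)
    (hcent : ∀ s ∈ S, s ≠ 1 → Subgroup.centralizer ({s} : Set G) = S)
    (hclasses : ∃ a b : G, orderOf a = 3 ∧ orderOf b = 3 ∧ ∀ g : G, g * a * g⁻¹ ≠ b) :
    Nonempty (G ≃* alternatingGroup (Fin 6)) := by
  classical
  haveI : Fact (Nat.Prime 3) := ⟨Nat.prime_three⟩
  have hinto : ∀ y : G, y ^ 3 = 1 → ∃ g : G, g * y * g⁻¹ ∈ S := by
    intro y hy
    by_cases hy1 : y = 1
    · exact ⟨1, by simp [hy1, S.one_mem]⟩
    obtain ⟨Q, hQ⟩ := (IsPGroup.of_card (p := 3) (n := 1)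
      (show Nat.card (Subgroup.zpowers y) = 3 ^ 1 by
        rw [Nat.card_zpowers, orderOf_eq_prime hy hy1, pow_one])).exists_le_sylow
    obtain ⟨g, hg⟩ := MulAction.exists_smul_eq G Q P
    refine ⟨g, ?_⟩
    rw [← hP, ← hg, Sylow.coe_subgroup_smul]
    exact ⟨y, hQ (Subgroup.mem_zpowers y), rfl⟩
  have h : Hyp S := ⟨hcard, hexp, hcent, hinto⟩
  have hG : ¬ IsMulCommutative G := by
    intro hc
    have hn : S.Normal := ⟨fun n hn g => by rwa [hc.is_comm.comm g n, mul_inv_cancel_right]⟩
    obtain ⟨a, b, ha, hb, hab⟩ := hclasses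
    obtain ⟨g, hg⟩ := hinto a (by rw [← ha]; exact pow_orderOf_eq_one a)
    rw [hc.is_comm.comm g a, mul_inv_cancel_right] at hg
    have ha1 : a ≠ 1 := fun e => by rw [e, orderOf_one] at ha; norm_num at ha
    obtain ⟨w, hwS, hw1⟩ := S.bot_or_exists_ne_one.resolve_left (fun e => by
      rw [e, Subgroup.card_bot] at hcard; norm_num at hcard)
    have hlt : Nat.card (Subgroup.zpowers a) < Nat.card S := by
      rw [hcard, Nat.card_zpowers, ha]; norm_num
    rcases IsSimpleGroup.eq_bot_or_eq_top_of_normal (Subgroup.zpowers a)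
      ⟨fun n hn g => by rwa [hc.is_comm.comm g n, mul_inv_cancel_right]⟩ with e | e
    · exact ha1 (Subgroup.zpowers_eq_bot.1 e)
    · rw [e, Subgroup.card_top] at hlt
      exact absurd (Subgroup.card_le_card_group S) (by omega)
  have hcl : ∃ a ∈ S, ∃ b ∈ S, a ≠ 1 ∧ b ≠ 1 ∧ ¬ IsConj a b := by
    obtain ⟨a, b, ha, hb, hab⟩ := hclasses
    obtain ⟨g, hg⟩ := hinto a (by rw [← ha]; exact pow_orderOf_eq_one a)
    obtain ⟨k, hk⟩ := hinto b (by rw [← hb]; exact pow_orderOf_eq_one b)
    refine ⟨_, hg, _, hk, fun e => ?_, fun e => ?_, fun hc => ?_⟩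
    · rw [conj_eq_one_iff.1 e, orderOf_one] at ha; norm_num at ha
    · rw [conj_eq_one_iff.1 e, orderOf_one] at hb; norm_num at hb
    · obtain ⟨c, hc⟩ := isConj_iff.1 (((isConj_iff.2 ⟨g, rfl⟩ : IsConj a (g * a * g⁻¹)).trans hc).trans
        (isConj_iff.2 ⟨k⁻¹, by group⟩ : IsConj (k * b * k⁻¹) b))
      exact hab c hc
  obtain ⟨hN, hle⟩ := normalizer_four h hG P hP hcl
  set N := Subgroup.normalizer (S : Set G) with hNdef
  have hgn : Nat.card G = 36 * N.index := by rw [← N.card_mul_index, hN]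
  -- the cosets other than the normalizer fall into regular orbits
  have hn9 : N.index % 9 = 1 := by
    let Y := {q : G ⧸ N // q ≠ ((1 : G) : G ⧸ N)}
    have hfixS : ∀ (s : S), (s : G) • ((1 : G) : G ⧸ N) = ((1 : G) : G ⧸ N) := fun s => by
      rw [MulAction.Quotient.smul_mk, QuotientGroup.eq, smul_eq_mul, mul_one, mul_one]
      exact N.inv_mem (Subgroup.le_normalizer s.2)
    letI : MulAction S Y :=
      { smul := fun s q => ⟨(s : G) • q.1, fun e => q.2 (smul_left_cancel (s : G) (e.trans (hfixS s).symm))⟩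
        one_smul := fun q => Subtype.ext (one_smul G q.1)
        mul_smul := fun s s' q => Subtype.ext (mul_smul (s : G) s' q.1) }
    have hfree : ∀ q : Y, MulAction.stabilizer S q = ⊥ := by
      intro q
      rw [Subgroup.eq_bot_iff_forall]
      intro s hs
      obtain ⟨k, hk⟩ := QuotientGroup.mk_surjective q.1
      have e : (s : G) • q.1 = q.1 := congrArg Subtype.val hs
      rw [← hk, MulAction.Quotient.smul_mk, QuotientGroup.eq, smul_eq_mul] at e
      by_contra hs1
      apply q.2
      rw [← hk, QuotientGroup.eq, mul_one]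
      have hm : k⁻¹ * (s : G) * k ∈ N := by
        have := N.inv_mem e
        rwa [mul_inv_rev, inv_inv, ← mul_assoc] at this
      have hS : k⁻¹ * (s : G) * k ∈ S := by
        suffices hmP : k⁻¹ * (s : G) * k ∈ (P : Subgroup G) by rwa [hP] at hmP
        have hc3 : (k⁻¹ * (s : G) * k) ^ 3 = 1 := by
          rw [show k⁻¹ * (s : G) * k = k⁻¹ * (s : G) * k⁻¹⁻¹ by group, conj_pow, hexp _ s.2]; group
        have hpg : IsPGroup 3 (Subgroup.zpowers (k⁻¹ * (s : G) * k)) := by
          refine IsPGroup.of_card (n := 1) ?_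
          rw [Nat.card_zpowers, pow_one, orderOf_eq_prime hc3]
          intro e1
          exact hs1 (Subtype.ext (by simpa [mul_assoc, inv_mul_eq_one, mul_eq_left] using e1))
        have hnorm : k⁻¹ * (s : G) * k ∈ Subgroup.normalizer (P : Set G) := by
          rw [show (P : Set G) = (S : Set G) by rw [← hP]; rfl]; exact hm
        have hin : k⁻¹ * (s : G) * k ∈
            Subgroup.zpowers (k⁻¹ * (s : G) * k) ⊓ Subgroup.normalizer (P : Set G) :=
          ⟨Subgroup.mem_zpowers _, hnorm⟩
        rw [hpg.inf_normalizer_sylow P] at hin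
        exact hin.2
      by_contra hk'
      exact hs1 (Subtype.ext (ca_ti S hcent k⁻¹ hk' _ s.2 (by simpa using hS)))
    have hY := Nat.card_congr (MulAction.selfEquivOrbitsQuotientProd hfree)
    rw [Nat.card_prod, hcard] at hY
    haveI := Fintype.ofFinite (G ⧸ N)
    have hYc : Nat.card Y = N.index - 1 := by
      rw [Subgroup.index_eq_card, Nat.card_eq_fintype_card, Fintype.card_subtype_compl,
        Fintype.card_subtype_eq, Nat.card_eq_fintype_card]
    have : 1 ≤ N.index := Nat.pos_of_ne_zero Subgroup.index_ne_zero_of_finite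
    omega
  have hcases : N.index = 1 ∨ N.index = 10 ∨ N.index = 19 := by omega
  rcases hcases with e | e | e
  · exfalso
    have hn : S.Normal := Subgroup.normalizer_eq_top_iff.1 (Subgroup.index_eq_one.1 e)
    rcases IsSimpleGroup.eq_bot_or_eq_top_of_normal S hn with e' | e'
    · rw [e', Subgroup.card_bot] at hcard; norm_num at hcard
    · exact hG ⟨⟨fun p q => h.comm (e' ▸ Subgroup.mem_top p) (e' ▸ Subgroup.mem_top q)⟩⟩
  · exact Cfsg.Agent.S0497.result (by rw [hgn, e])
  · exfalso
    rw [e] at hgn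
    haveI : Fact (Nat.Prime 19) := ⟨by norm_num⟩
    obtain ⟨Q⟩ : Nonempty (Sylow 19 G) := inferInstance
    have h1 := card_sylow_modEq_one 19 G
    have h2 : Nat.card (Sylow 19 G) ∣ (Q : Subgroup G).index := Q.card_dvd_index
    have hQ : Nat.card (Q : Subgroup G) = 19 := by
      rw [Q.card_eq_multiplicity, hgn, show 36 * 19 = 19 ^ 1 * 36 by norm_num,
        Nat.factorization_mul (by norm_num) (by norm_num), Finsupp.add_apply,
        Nat.Prime.factorization_pow Fact.out, Finsupp.single_eq_same,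
        Nat.factorization_eq_zero_of_not_dvd (by norm_num), add_zero, pow_one]
    have hidx : (Q : Subgroup G).index = 36 := by
      have := (Q : Subgroup G).card_mul_index
      rw [hQ, hgn] at this
      omega
    rw [hidx] at h2
    have hone : Nat.card (Sylow 19 G) = 1 := by
      have hle36 := Nat.le_of_dvd (by norm_num) h2
      rw [Nat.ModEq] at h1
      have : Nat.card (Sylow 19 G) = 1 ∨ Nat.card (Sylow 19 G) = 20 := by omega
      rcases this with e1 | e1
      · exact e1
      · rw [e1] at h2; norm_num at h2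
    haveI : Subsingleton (Sylow 19 G) := (Nat.card_eq_one_iff_unique.1 hone).1
    rcases IsSimpleGroup.eq_bot_or_eq_top_of_normal (Q : Subgroup G) Q.normal_of_subsingleton with e' | e'
    · rw [e', Subgroup.card_bot] at hQ; norm_num at hQ
    · rw [e', Subgroup.card_top, hgn] at hQ; norm_num at hQ

end CfsgLib.Char.NineTI
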