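import Cfsg.Agent.Lib.Char.SignedIrr
import Cfsg.Agent.Lib.Char.Malnormal
import Cfsg.Agent.Lib.Char.ExtendChar
import Mathlib.RingTheory.RootsOfUnity.Complex

/-!
# Self-centralizing elementary subgroups of order nine

A subgroup `S` of order nine and exponent three containing the centralizer of each of its
non-trivial elements: triples of elements of order three, and the class functions of the ambient
group induced from functions on `S` invariant under the normalizer.
-/

set_option autoImplicit false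
set_option linter.unusedSectionVars false

namespace CfsgLib.Char.NineTI

open scoped ComplexConjugate
open Cfsg CfsgLib.Char CfsgLib.Char.Signed

universe u

variable {G : Type u} [Group G]

/-- The hypothesis. -/
structure Hyp (S : Subgroup G) : Prop where
  nine : Nat.card S = 9
  exp : ∀ a ∈ S, a ^ 3 = 1
  cent : ∀ s ∈ S, s ≠ 1 → Subgroup.centralizer ({s} : Set G) = S
  into : ∀ y : G, y ^ 3 = 1 → ∃ g : G, g * y * g⁻¹ ∈ S

variable {S : Subgroup G}

theorem Hyp.mem_of_comm (h : Hyp S) {s g : G} (hs : s ∈ S) (hs1 : s ≠ 1) (hg : g * s = s * g) :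
    g ∈ S := by
  rw [← h.cent s hs hs1]
  exact Subgroup.mem_centralizer_singleton_iff.2 hg

theorem Hyp.comm (h : Hyp S) {a b : G} (ha : a ∈ S) (hb : b ∈ S) : a * b = b * a := by
  by_cases hb1 : b = 1
  · simp [hb1]
  · rw [← h.cent b hb hb1] at ha
    exact Subgroup.mem_centralizer_singleton_iff.1 ha

theorem Hyp.cent_cube (h : Hyp S) {x p q : G} (hx : x ^ 3 = 1) (hx1 : x ≠ 1)
    (hp : p * x = x * p) (hq : q * x = x * q) : p * q = q * p ∧ p ^ 3 = 1 := by
  obtain ⟨g, hg⟩ := h.into x hx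
  have hne : g * x * g⁻¹ ≠ 1 := fun e => hx1 (conj_eq_one_iff.1 e)
  have hmem : ∀ r : G, r * x = x * r → g * r * g⁻¹ ∈ S := fun r hr => h.mem_of_comm hg hne (by
    calc g * r * g⁻¹ * (g * x * g⁻¹) = g * (r * x) * g⁻¹ := by group
      _ = _ := by rw [hr]; group)
  constructor
  · calc p * q = g⁻¹ * ((g * p * g⁻¹) * (g * q * g⁻¹)) * g := by group
      _ = g⁻¹ * ((g * q * g⁻¹) * (g * p * g⁻¹)) * g := by rw [h.comm (hmem p hp) (hmem q hq)]
      _ = q * p := by group
  · have e := h.exp _ (hmem p hp)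
    rw [conj_pow] at e
    exact conj_eq_one_iff.1 e

/-- Two elements of order three with product of order three commute or are conjugate. -/
theorem Hyp.triple [Finite G] (h : Hyp S) {x y : G} (hx : x ^ 3 = 1) (hx1 : x ≠ 1) (hy : y ^ 3 = 1)
    (hxy : (x * y) ^ 3 = 1) : x * y = y * x ∨ IsConj x y := by
  classical
  set u := x⁻¹ * y with hu
  set v := y * x⁻¹ with hv
  have hxx : x⁻¹ * x⁻¹ = x := by
    calc x⁻¹ * x⁻¹ = x⁻¹ * x⁻¹ * x ^ 3 := by rw [hx, mul_one]
      _ = x := by rw [pow_succ, pow_two]; group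
  have hyy : y * y = y⁻¹ := eq_inv_of_mul_eq_one_left (by rw [← pow_two, ← pow_succ, hy])
  have hyxy : y * x * y = x⁻¹ * y⁻¹ * x⁻¹ := by
    have e : y * x * y = x⁻¹ * ((x * y) ^ 3) * (y⁻¹ * x⁻¹) := by
      rw [pow_succ, pow_two]; group
    rw [e, hxy]; group
  have huv : u * v = v * u := by
    calc u * v = x⁻¹ * (y * y) * x⁻¹ := by rw [hu, hv]; group
      _ = y * x * y := by rw [hyy, hyxy]
      _ = y * (x⁻¹ * x⁻¹) * y := by rw [hxx]
      _ = v * u := by rw [hu, hv]; group
  set A := Subgroup.closure ({u, v} : Set G) with hA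
  have hAc : ∀ p ∈ A, ∀ q ∈ A, p * q = q * p := by
    have hgen : ∀ p ∈ ({u, v} : Set G), ∀ q ∈ ({u, v} : Set G), p * q = q * p := by
      rintro p (rfl | rfl) q (rfl | rfl)
      · rfl
      · exact huv
      · exact huv.symm
      · rfl
    intro p hp q hq
    have h1 : ∀ q ∈ A, ∀ r ∈ ({u, v} : Set G), q * r = r * q := by
      intro q hq r hr
      have hle : A ≤ Subgroup.centralizer ({r} : Set G) := (Subgroup.closure_le _).2 fun s hs =>
        Subgroup.mem_centralizer_singleton_iff.2 (hgen s hs r hr)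
      exact Subgroup.mem_centralizer_singleton_iff.1 (hle hq)
    have hle : A ≤ Subgroup.centralizer ({q} : Set G) := (Subgroup.closure_le _).2 fun s hs =>
      Subgroup.mem_centralizer_singleton_iff.2 (h1 q hq s hs).symm
    exact Subgroup.mem_centralizer_singleton_iff.1 (hle hp)
  have hmu : u ∈ A := Subgroup.subset_closure (Or.inl rfl)
  have hmv : v ∈ A := Subgroup.subset_closure (Or.inr rfl)
  have hconj : ∀ p ∈ A, x * p * x⁻¹ ∈ A := by
    have hle : A ≤ A.comap (MulAut.conj x).toMonoidHom := (Subgroup.closure_le _).2 (by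
      rintro p (rfl | rfl)
      · show x * u * x⁻¹ ∈ A
        rw [show x * u * x⁻¹ = v by rw [hu, hv]; group]
        exact hmv
      · show x * v * x⁻¹ ∈ A
        rw [show x * v * x⁻¹ = (v * u)⁻¹ by
          have e : x * y * x = y⁻¹ * x⁻¹ * y⁻¹ := by
            have e' : x * y * x = (x * y) ^ 3 * (y⁻¹ * x⁻¹ * y⁻¹) := by rw [pow_succ, pow_two]; group
            rw [e', hxy, one_mul]
          calc x * v * x⁻¹ = x * y * (x⁻¹ * x⁻¹) := by rw [hv]; group
            _ = y⁻¹ * (x⁻¹)⁻¹⁻¹ * y⁻¹ := by rw [hxx, e, inv_inv]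
            _ = (y * x * y)⁻¹ := by group
            _ = (y * (x⁻¹ * x⁻¹) * y)⁻¹ := by rw [hxx]
            _ = (v * u)⁻¹ := by rw [hu, hv]; group]
        exact A.inv_mem (A.mul_mem hmv hmu))
    exact fun p hp => hle hp
  by_cases h3 : ∃ w ∈ A, w ^ 3 = 1 ∧ w ≠ 1
  · left
    obtain ⟨w, hwA, hw3, hw1⟩ := h3
    obtain ⟨q, hqA, hq3, hq1, hqx⟩ : ∃ q ∈ A, q ^ 3 = 1 ∧ q ≠ 1 ∧ x * q * x⁻¹ = q := by
      set w' := x * w * x⁻¹ with hw'
      set w'' := x * w' * x⁻¹ with hw''
      have hA' : w' ∈ A := hconj w hwA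
      have hA'' : w'' ∈ A := hconj w' hA'
      have h3' : w' ^ 3 = 1 := by rw [hw', conj_pow, hw3]; group
      have h3'' : w'' ^ 3 = 1 := by rw [hw'', conj_pow, h3']; group
      have hback : x * w'' * x⁻¹ = w := by
        calc x * w'' * x⁻¹ = x ^ 3 * w * (x ^ 3)⁻¹ := by rw [hw'', hw', pow_succ, pow_two]; group
          _ = w := by rw [hx]; group
      by_cases hN : w * w' * w'' = 1
      · by_cases hd : w' * w⁻¹ = 1
        · exact ⟨w, hwA, hw3, hw1, mul_inv_eq_one.1 hd⟩
        · refine ⟨w' * w⁻¹, A.mul_mem hA' (A.inv_mem hwA), ?_, hd, ?_⟩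
          · rw [(show Commute w' w⁻¹ from hAc _ hA' _ (A.inv_mem hwA)).mul_pow, h3', inv_pow, hw3]
            group
          · have e2 : w'' = w'⁻¹ * w⁻¹ := by
              rw [eq_inv_of_mul_eq_one_right hN, mul_inv_rev]
            have h2' : w'⁻¹ * w'⁻¹ = w' := by
              calc w'⁻¹ * w'⁻¹ = w'⁻¹ * w'⁻¹ * w' ^ 3 := by rw [h3', mul_one]
                _ = w' := by rw [pow_succ, pow_two]; group
            calc x * (w' * w⁻¹) * x⁻¹ = w'' * w'⁻¹ := by rw [hw'', hw']; group
              _ = w'⁻¹ * (w'⁻¹ * w⁻¹) := by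
                  rw [e2, hAc _ (A.mul_mem (A.inv_mem hA') (A.inv_mem hwA)) _ (A.inv_mem hA')]
              _ = w' * w⁻¹ := by rw [← mul_assoc, h2']
      · refine ⟨w * w' * w'', A.mul_mem (A.mul_mem hwA hA') hA'', ?_, hN, ?_⟩
        · rw [(show Commute (w * w') w'' from hAc _ (A.mul_mem hwA hA') _ hA'').mul_pow,
            (show Commute w w' from hAc _ hwA _ hA').mul_pow, hw3, h3', h3'', one_mul, one_mul]
        · calc x * (w * w' * w'') * x⁻¹ = w' * w'' * (x * w'' * x⁻¹) := by rw [hw'', hw']; group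
            _ = w * (w' * w'') := by rw [hback, hAc _ (A.mul_mem hA' hA'') _ hwA]
            _ = w * w' * w'' := (mul_assoc _ _ _).symm
    have h1 := (h.cent_cube hq3 hq1 (mul_inv_eq_iff_eq_mul.1 hqx) (hAc u hmu q hqA)).1
    calc x * y = x * x * u := by rw [hu]; group
      _ = x * (u * x) := by rw [← h1]; group
      _ = y * x := by rw [hu]; group
  · right
    let f : A → A := fun p => ⟨x⁻¹ * (p : G) * x * (p : G)⁻¹, A.mul_mem (by
      have := hconj _ (hconj _ p.2)
      rwa [show x * (x * (p : G) * x⁻¹) * x⁻¹ = x⁻¹ * (p : G) * x by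
        calc x * (x * (p : G) * x⁻¹) * x⁻¹ = x ^ 3 * (x⁻¹ * (p : G) * x) * (x ^ 3)⁻¹ := by
              rw [pow_succ, pow_two]; group
          _ = _ := by rw [hx]; group] at this) (A.inv_mem p.2)⟩
    have hf : Function.Injective f := by
      intro p q e
      have e' : x⁻¹ * (p : G) * x * (p : G)⁻¹ = x⁻¹ * (q : G) * x * (q : G)⁻¹ := congrArg Subtype.val e
      by_contra hne
      refine h3 ⟨(q : G)⁻¹ * p, A.mul_mem (A.inv_mem q.2) p.2, ?_,
        fun e1 => hne (Subtype.ext (inv_mul_eq_one.1 e1).symm)⟩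
      have hcm : (q : G)⁻¹ * p * x = x * ((q : G)⁻¹ * p) := by
        calc (q : G)⁻¹ * p * x = (q : G)⁻¹ * x * (x⁻¹ * (p : G) * x * (p : G)⁻¹) * p := by group
          _ = (q : G)⁻¹ * x * (x⁻¹ * (q : G) * x * (q : G)⁻¹) * p := by rw [e']
          _ = x * ((q : G)⁻¹ * p) := by group
      exact (h.cent_cube hx hx1 hcm hcm).2
    obtain ⟨p, hp⟩ := (Finite.injective_iff_surjective.1 hf) ⟨u, hmu⟩
    refine isConj_iff.2 ⟨(p : G), ?_⟩
    have e' : x⁻¹ * (p : G) * x * (p : G)⁻¹ = x⁻¹ * y := congrArg Subtype.val hp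
    calc (p : G) * x * (p : G)⁻¹ = x * (x⁻¹ * (p : G) * x * (p : G)⁻¹) := by group
      _ = y := by rw [e', mul_inv_cancel_left]

/-- Products of two conjugates of a real element landing in `S` outside its class are formed in `S`. -/
theorem Hyp.local_pairs [Finite G] (h : Hyp S) {a x y z : G} (ha : a ^ 3 = 1) (hreal : IsConj a a⁻¹)
    (hx : x ∈ S) (hx1 : x ≠ 1) (hxa : ¬ IsConj a x) (hy : IsConj a y) (hz : IsConj a z)
    (hyz : y * z = x) : y ∈ S := by
  have hcube : ∀ w, IsConj a w → w ^ 3 = 1 := fun w hw => by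
    obtain ⟨g, rfl⟩ := isConj_iff.1 hw
    rw [conj_pow, ha]; group
  have hyx : x * z⁻¹ = y := by rw [← hyz]; group
  rcases h.triple (h.exp x hx) hx1 (show (z⁻¹) ^ 3 = 1 by rw [inv_pow, hcube z hz, inv_one])
    (by rw [hyx]; exact hcube y hy) with e | e
  · rw [← hyx]
    exact S.mul_mem hx (h.mem_of_comm hx hx1 e.symm)
  · obtain ⟨g, hg⟩ := isConj_iff.1 hz
    have hz' : IsConj a⁻¹ z⁻¹ := isConj_iff.2 ⟨g, by rw [← hg]; group⟩
    exact absurd ((hreal.trans hz').trans e.symm) hxa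

/-! ### Coordinates and induced functions -/

/-- Coordinates. -/
abbrev V9 := ZMod 3 × ZMod 3

/-- Coordinates on `S` with representatives of the normalizer modulo `S`. -/
structure Frame (S : Subgroup G) (e : ℕ) where
  /-- the coordinates -/
  el : V9 → G
  /-- the action -/
  M : Fin e → V9 → V9
  /-- the representatives -/
  rep : Fin e → G
  mem : ∀ v, el v ∈ S
  add : ∀ v w, el (v + w) = el v * el w
  inj : Function.Injective el
  act : ∀ j v, rep j * el v * (rep j)⁻¹ = el (M j v)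
  repN : ∀ j, rep j ∈ Subgroup.normalizer (S : Set G)
  cover : ∀ y ∈ Subgroup.normalizer (S : Set G), ∃ j, (rep j)⁻¹ * y ∈ S
  distinct : ∀ i j, (rep i)⁻¹ * rep j ∈ S → i = j

variable {e : ℕ}

namespace Frame

theorem el_zero (F : Frame S e) : F.el 0 = 1 := by
  have h1 := F.add 0 0
  rw [add_zero] at h1
  exact left_eq_mul.1 h1

theorem el_ne_one (F : Frame S e) {v : V9} (hv : v ≠ 0) : F.el v ≠ 1 := fun e1 =>
  hv (F.inj (e1.trans F.el_zero.symm))

theorem bijective (F : Frame S e) (h : Hyp S) :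
    Function.Bijective fun v => (⟨F.el v, F.mem v⟩ : S) := by
  haveI : Finite S := Nat.finite_of_card_ne_zero (by rw [h.nine]; norm_num)
  refine (Nat.bijective_iff_injective_and_card _).2
    ⟨fun v w e1 => F.inj (congrArg Subtype.val e1), ?_⟩
  rw [h.nine]
  simp [V9]

/-- The coordinates as an equivalence. -/
noncomputable def equiv (F : Frame S e) (h : Hyp S) : V9 ≃ S := Equiv.ofBijective _ (F.bijective h)

/-- A function of the coordinates as a function on `S`. -/
noncomputable def fS (F : Frame S e) (h : Hyp S) (f : V9 → ℂ) : S → ℂ := fun s => f ((F.equiv h).symm s)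

theorem fS_el (F : Frame S e) (h : Hyp S) (f : V9 → ℂ) (v : V9) :
    F.fS h f ⟨F.el v, F.mem v⟩ = f v := by
  rw [fS]
  congr 1
  exact (F.equiv h).symm_apply_eq.2 rfl

theorem isConj_M (F : Frame S e) (j : Fin e) (v : V9) : IsConj (F.el v) (F.el (F.M j v)) :=
  isConj_iff.2 ⟨F.rep j, F.act j v⟩

variable [Fintype G]

/-- The induced function attached to an invariant integral function. -/
noncomputable def R (F : Frame S e) (h : Hyp S) (f : V9 → ℤ) : G → ℂ :=
  (e : ℂ)⁻¹ • indFun S (F.fS h fun v => (f v : ℂ))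

theorem card_cover (F : Frame S e) (h : Hyp S) :
    Nat.card (Subgroup.normalizer (S : Set G)) = e * 9 := by
  classical
  rw [← h.nine, ← Nat.card_fin e, ← Nat.card_prod]
  refine (Nat.card_congr (Equiv.ofBijective
    (fun z : Fin e × S => (⟨F.rep z.1 * (z.2 : G), Subgroup.mul_mem _ (F.repN z.1)
      (Subgroup.le_normalizer z.2.2)⟩ : Subgroup.normalizer (S : Set G))) ⟨?_, ?_⟩)).symm
  · rintro ⟨i, a⟩ ⟨j, b⟩ e1
    have e2 : F.rep i * (a : G) = F.rep j * (b : G) := congrArg Subtype.val e1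
    have : i = j := F.distinct i j (by
      rw [show (F.rep i)⁻¹ * F.rep j = (a : G) * (b : G)⁻¹ by
        rw [inv_mul_eq_iff_eq_mul, ← mul_assoc, e2, mul_inv_cancel_right]]
      exact S.mul_mem a.2 (S.inv_mem b.2))
    subst this
    exact Prod.ext rfl (Subtype.ext (mul_left_cancel e2))
  · rintro ⟨y, hy⟩
    obtain ⟨j, hj⟩ := F.cover y hy
    exact ⟨(j, ⟨_, hj⟩), Subtype.ext (mul_inv_cancel_left _ _)⟩

theorem indFun_el (F : Frame S e) (h : Hyp S) {f : V9 → ℂ} (hinv : ∀ j v, f (F.M j v) = f v)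
    {v : V9} (hv : v ≠ 0) : indFun S (F.fS h f) (F.el v) = (e : ℂ) * f v := by
  classical
  have key : ∀ y : G, extendByZero S (F.fS h f) (y⁻¹ * F.el v * y) =
      if y ∈ Subgroup.normalizer (S : Set G) then f v else 0 := by
    intro y
    split_ifs with hy
    · obtain ⟨j, hj⟩ := F.cover y hy
      have hm : y⁻¹ * F.el v * y ∈ S := (Subgroup.mem_normalizer_iff''.1 hy _).1 (F.mem v)
      rw [extendByZero_mem S _ hm]
      obtain ⟨w, hw⟩ := (F.bijective h).2 ⟨_, hm⟩
      rw [← hw, F.fS_el h]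
      have hw' : F.el w = y⁻¹ * F.el v * y := congrArg Subtype.val hw
      have hMv : F.M j w = v := by
        refine F.inj ?_
        rw [← F.act j w]
        have hc := h.comm hj (F.mem w)
        calc F.rep j * F.el w * (F.rep j)⁻¹ = F.rep j * (((F.rep j)⁻¹ * y) * F.el w) *
              ((F.rep j)⁻¹ * y)⁻¹ * (F.rep j)⁻¹ := by rw [hc]; group
          _ = y * F.el w * y⁻¹ := by group
          _ = F.el v := by rw [hw']; group
      rw [← hMv, hinv]
    · refine extendByZero_not_mem S _ fun hm => ?_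
      refine F.el_ne_one hv (ca_ti S h.cent y⁻¹ (fun h' => hy (by simpa using Subgroup.inv_mem _ h'))
        _ (F.mem v) (by simpa using hm))
  rw [indFun, Finset.sum_congr rfl fun y _ => key y, ← Finset.sum_filter, Finset.sum_const,
    nsmul_eq_mul, ← Fintype.card_subtype, ← Nat.card_eq_fintype_card, h.nine,
    show Nat.card {y // y ∈ Subgroup.normalizer (S : Set G)} = e * 9 from F.card_cover h]
  push_cast
  ring

theorem R_one (F : Frame S e) (h : Hyp S) {f : V9 → ℤ} (h0 : f 0 = 0) : F.R h f 1 = 0 := by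
  rw [R, Pi.smul_apply, indFun_one, show (1 : S) = ⟨F.el 0, F.mem 0⟩ from Subtype.ext F.el_zero.symm,
    F.fS_el h, h0]
  simp

theorem R_el (F : Frame S e) (h : Hyp S) (he : e ≠ 0) {f : V9 → ℤ} (hinv : ∀ j v, f (F.M j v) = f v)
    {v : V9} (hv : v ≠ 0) : F.R h f (F.el v) = f v := by
  rw [R, Pi.smul_apply, F.indFun_el h (fun j w => by rw [hinv]) hv, smul_eq_mul, ← mul_assoc,
    inv_mul_cancel₀ (by exact_mod_cast he), one_mul]

theorem R_class (F : Frame S e) (h : Hyp S) (f : V9 → ℤ) : IsClassFunction G (F.R h f) := fun g k => by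
  rw [R, Pi.smul_apply, Pi.smul_apply, isClassFunction_indFun S _ g k]

theorem R_comb (F : Frame S e) (h : Hyp S) {f g k : V9 → ℤ} (a b n : ℤ)
    (hfg : ∀ v, n * k v = a * f v + b * g v) :
    (n : ℂ) • F.R h k = (a : ℂ) • F.R h f + (b : ℂ) • F.R h g := by
  simp only [R, smul_comm _ (e : ℂ)⁻¹, ← smul_add]
  congr 1
  rw [← indFun_smul, ← indFun_smul, ← indFun_smul, ← indFun_add]
  congr 1
  funext s
  have := hfg ((F.equiv h).symm s)
  simp only [fS, Pi.smul_apply, Pi.add_apply, smul_eq_mul]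
  exact_mod_cast this

theorem inner_fun (F : Frame S e) (h : Hyp S) (f : V9 → ℤ) {χ : G → ℂ} (hχ : IsClassFunction G χ) :
    classInner (F.R h f) χ = ((e : ℂ) * 9)⁻¹ * ∑ v : V9, (f v : ℂ) * conj (χ (F.el v)) := by
  classical
  haveI := Fintype.ofFinite S
  rw [R, classInner_smul_left, classInner_indFun S _ χ hχ, classInner, h.nine, mul_inv,
    Nat.cast_ofNat, mul_assoc]
  congr 2
  rw [← (F.equiv h).sum_comp]
  refine Finset.sum_congr rfl fun v _ => ?_
  show F.fS h _ ⟨F.el v, F.mem v⟩ * _ = _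
  rw [F.fS_el h]
  rfl

theorem inner_R (F : Frame S e) (h : Hyp S) (he : e ≠ 0) {f g : V9 → ℤ} (hf0 : f 0 = 0)
    (hg : ∀ j v, g (F.M j v) = g v) (m : ℤ) (hm : ∑ v : V9, f v * g v = (e : ℤ) * 9 * m) :
    classInner (F.R h f) (F.R h g) = m := by
  rw [F.inner_fun h f (F.R_class h g),
    Finset.sum_congr rfl (g := fun v => ((f v * g v : ℤ) : ℂ)) fun v _ => ?_, ← Int.cast_sum, hm]
  · have : (e : ℂ) ≠ 0 := by exact_mod_cast he
    push_cast
    field_simp
  · by_cases hv : v = 0
    · simp [hv, hf0]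
    · rw [F.R_el h he hg hv, map_intCast, Int.cast_mul]

theorem inner_R_one (F : Frame S e) (h : Hyp S) (he : e ≠ 0) {f : V9 → ℤ} (m : ℤ)
    (hm : ∑ v : V9, f v = (e : ℤ) * 9 * m) : classInner (F.R h f) (fun _ => 1) = m := by
  rw [F.inner_fun h f (fun _ _ => rfl)]
  simp only [map_one, mul_one]
  rw [← Int.cast_sum, hm]
  have : (e : ℂ) ≠ 0 := by exact_mod_cast he
  push_cast
  field_simp

theorem inner_indicator (F : Frame S e) (h : Hyp S) (he : e ≠ 0) {v₀ : V9} {f : V9 → ℤ}
    (hval : ∀ v, f v = 0 ∨ f v = 1) (hsum : ∑ v : V9, f v = e)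
    (horb : ∀ v, f v = 1 → IsConj (F.el v₀) (F.el v)) {χ : G → ℂ} (hχ : IsClassFunction G χ) :
    classInner (F.R h f) χ = conj (χ (F.el v₀)) / 9 := by
  rw [F.inner_fun h f hχ, Finset.sum_congr rfl (g := fun v => (f v : ℂ) * conj (χ (F.el v₀))) fun v _ => ?_,
    ← Finset.sum_mul, ← Int.cast_sum, hsum]
  · have : (e : ℂ) ≠ 0 := by exact_mod_cast he
    push_cast
    field_simp
  · rcases hval v with e1 | e1
    · simp [e1]
    · obtain ⟨g, hg⟩ := isConj_iff.1 (horb v e1)
      rw [← hg, hχ]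

theorem card_class (F : Frame S e) (h : Hyp S) {v : V9} (hv : v ≠ 0) :
    Nat.card {x : G // IsConj (F.el v) x} * 9 = Nat.card G := by
  have e1 := (Subgroup.centralizer ({F.el v} : Set G)).index_mul_card
  rw [h.cent _ (F.mem v) (F.el_ne_one hv), h.nine] at e1
  rw [card_isConj, h.cent _ (F.mem v) (F.el_ne_one hv)]
  exact e1

/-- The class-algebra functional on an orbit indicator, evaluated by counting pairs in `S`. -/
theorem qfun_R (F : Frame S e) (h : Hyp S) (he : e ≠ 0) {va : V9} (hva : va ≠ 0)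
    (hreal : IsConj (F.el va) (F.el va)⁻¹) {f : V9 → ℤ} (hf0 : f 0 = 0)
    (hna : ∀ v, f v ≠ 0 → ¬ IsConj (F.el va) (F.el v)) {Oa : V9 → Bool}
    (hOa : ∀ v, IsConj (F.el va) (F.el v) ↔ Oa v = true) (m : ℤ)
    (hm : ∑ v : V9, ∑ w : V9, (if Oa v && Oa w then f (v + w) else 0) = (e : ℤ) * m) :
    qfun (F.el va) (F.R h f) = 9 * (m : ℂ) / (Nat.card G : ℂ) := by
  classical
  haveI := Fintype.ofFinite S
  obtain ⟨C, -, hC, hq⟩ := qfun_indFun S (F.el va) (F.fS h fun v => (f v : ℂ)) (by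
    intro x hx y z hy hz hyz
    obtain ⟨v, rfl⟩ := (F.bijective h).2 x
    rw [F.fS_el h] at hx
    have hfv : f v ≠ 0 := fun e1 => hx (by rw [e1, Int.cast_zero])
    exact h.local_pairs (h.exp _ (F.mem va)) hreal (F.mem v)
      (F.el_ne_one fun e1 => hfv (by rw [e1, hf0])) (hna v hfv) hy hz hyz)
  have hcount : (∑ᶠ p : {y : S // IsConj (F.el va) (y : G)} × {y : S // IsConj (F.el va) (y : G)},
      F.fS h (fun v => (f v : ℂ)) (p.1.1 * p.2.1)) =
      ∑ v : V9, ∑ w : V9, ((if Oa v && Oa w then f (v + w) else 0 : ℤ) : ℂ) := by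
    let D := {v : V9 // Oa v = true}
    let φ : D → {y : S // IsConj (F.el va) (y : G)} := fun v => ⟨⟨F.el v.1, F.mem v.1⟩, (hOa v.1).2 v.2⟩
    have hφ : Function.Bijective φ := by
      refine ⟨fun v w e1 => Subtype.ext (F.inj (congrArg (fun z => ((z.1 : S) : G)) e1)), fun y => ?_⟩
      obtain ⟨v, hv⟩ := (F.bijective h).2 y.1
      exact ⟨⟨v, (hOa v).1 (by rw [show F.el v = ((y.1 : S) : G) from congrArg Subtype.val hv]; exact y.2)⟩,
        Subtype.ext hv⟩
    rw [finsum_eq_sum_of_fintype, Fintype.sum_prod_type, ← (Equiv.ofBijective φ hφ).sum_comp]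
    have hrow : ∀ v : D, (∑ p : {y : S // IsConj (F.el va) (y : G)},
        F.fS h (fun v => (f v : ℂ)) ((φ v).1 * p.1)) = ∑ w : D, (f (v.1 + w.1) : ℂ) := by
      intro v
      rw [← (Equiv.ofBijective φ hφ).sum_comp]
      refine Finset.sum_congr rfl fun w _ => ?_
      show F.fS h _ (⟨F.el v.1, F.mem v.1⟩ * ⟨F.el w.1, F.mem w.1⟩) = _
      rw [show (⟨F.el v.1, F.mem v.1⟩ * ⟨F.el w.1, F.mem w.1⟩ : S) = ⟨F.el (v.1 + w.1), F.mem _⟩ from
        Subtype.ext (F.add _ _).symm, F.fS_el h]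
    refine (Finset.sum_congr rfl fun v _ => hrow v).trans ?_
    rw [← Finset.sum_subtype (Finset.univ.filter fun v => Oa v = true) (by simp)
      (fun v => ∑ w : D, (f (v + w.1) : ℂ)), Finset.sum_filter]
    refine Finset.sum_congr rfl fun v _ => ?_
    by_cases hv : Oa v = true
    · rw [if_pos hv, ← Finset.sum_subtype (Finset.univ.filter fun w => Oa w = true) (by simp)
        (fun w => (f (v + w) : ℂ)), Finset.sum_filter]
      refine Finset.sum_congr rfl fun w _ => ?_
      by_cases hw : Oa w = true <;> simp [hv, hw]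
    · rw [if_neg hv]
      simp [hv]
  have hlin : qfun (F.el va) (F.R h f) =
      (e : ℂ)⁻¹ * qfun (F.el va) (indFun S (F.fS h fun v => (f v : ℂ))) := by
    have := Fintype.ofFinite (IrrCharacter G)
    simp only [qfun, R, finsum_eq_sum_of_fintype, classInner_smul_left, Finset.mul_sum]
    exact Finset.sum_congr rfl fun χ _ => by ring
  rw [hlin, hq, hcount]
  simp only [← Int.cast_sum]
  rw [hm, hC, h.nine]
  have h9 : (Nat.card {x : G // IsConj (F.el va) x} : ℂ) * 9 = (Nat.card G : ℂ) := by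
    exact_mod_cast F.card_class h hva
  have hk : (Nat.card {x : G // IsConj (F.el va) x} : ℂ) ≠ 0 := fun e1 =>
    card_ne_zero' (G := G) (by rw [← h9, e1, zero_mul])
  have : (e : ℂ) ≠ 0 := by exact_mod_cast he
  rw [← h9]
  push_cast
  field_simp

/-- Induction does not see conjugation by the normalizer. -/
theorem indFun_M (F : Frame S e) (h : Hyp S) (f : V9 → ℂ) (j : Fin e) :
    indFun S (F.fS h fun v => f (F.M j v)) = indFun S (F.fS h f) := by
  classical
  funext g
  simp only [indFun]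
  congr 1
  refine Fintype.sum_bijective (fun x => x * (F.rep j)⁻¹) (Group.mulRight_bijective _) _ _ fun x => ?_
  have hiff : x⁻¹ * g * x ∈ S ↔ (x * (F.rep j)⁻¹)⁻¹ * g * (x * (F.rep j)⁻¹) ∈ S := by
    rw [show (x * (F.rep j)⁻¹)⁻¹ * g * (x * (F.rep j)⁻¹) = F.rep j * (x⁻¹ * g * x) * (F.rep j)⁻¹ by group]
    exact Subgroup.mem_normalizer_iff.1 (F.repN j) _
  by_cases hm : x⁻¹ * g * x ∈ S
  · rw [extendByZero_mem S _ hm, extendByZero_mem S _ (hiff.1 hm)]
    obtain ⟨v, hv⟩ := (F.bijective h).2 ⟨_, hm⟩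
    rw [← hv, F.fS_el h]
    rw [show (⟨(x * (F.rep j)⁻¹)⁻¹ * g * (x * (F.rep j)⁻¹), hiff.1 hm⟩ : S) = ⟨F.el (F.M j v), F.mem _⟩
      from Subtype.ext (by
        have hv' : F.el v = x⁻¹ * g * x := congrArg Subtype.val hv
        show _ = F.el (F.M j v)
        rw [← F.act j v, hv']
        group), F.fS_el h]
  · rw [extendByZero_not_mem S _ hm, extendByZero_not_mem S _ fun h' => hm (hiff.2 h')]

/-- A primitive cube root of unity raised to a residue. -/
noncomputable def cube (k : ZMod 3) : ℂ := Complex.exp (2 * Real.pi * Complex.I / 3) ^ k.val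

theorem cube_root : IsPrimitiveRoot (Complex.exp (2 * Real.pi * Complex.I / 3)) 3 :=
  Complex.isPrimitiveRoot_exp 3 (by norm_num)

theorem cube_add (k l : ZMod 3) : cube (k + l) = cube k * cube l := by
  rw [cube, cube, cube, ← pow_add]
  refine pow_eq_pow_of_modEq ?_ cube_root.pow_eq_one
  rw [ZMod.val_add]
  exact Nat.mod_modEq _ _

theorem cube_pair (k : ZMod 3) :
    (1 - cube k) + (1 - cube (-k)) = ((if k = 0 then 0 else 3 : ℤ) : ℂ) := by
  have hsum := cube_root.geom_sum_eq_zero (by norm_num : 1 < 3)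
  simp only [Finset.sum_range_succ, Finset.sum_range_zero, pow_zero, pow_one, zero_add] at hsum
  rcases (by decide : ∀ k : ZMod 3, k = 0 ∨ k = 1 ∨ k = 2) k with rfl | rfl | rfl
  · simp [cube]
  · rw [if_neg (by decide)]
    show 1 - Complex.exp (2 * Real.pi * Complex.I / 3) ^ 1 +
      (1 - Complex.exp (2 * Real.pi * Complex.I / 3) ^ 2) = ((3 : ℤ) : ℂ)
    push_cast
    linear_combination -hsum
  · rw [if_neg (by decide)]
    show 1 - Complex.exp (2 * Real.pi * Complex.I / 3) ^ 2 +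
      (1 - Complex.exp (2 * Real.pi * Complex.I / 3) ^ 1) = ((3 : ℤ) : ℂ)
    push_cast
    linear_combination -hsum

/-- The functions arising from linear characters give generalized characters. -/
theorem gen_R (F : Frame S e) (h : Hyp S) (φ : V9 →+ ZMod 3) (he : e ≠ 0) {f : V9 → ℤ}
    (hf : ∀ v, (f v : ℂ) = ∑ j : Fin e, (1 - cube (φ (F.M j v)))) : Gen (F.R h f) := by
  classical
  let lam : S →* ℂˣ := MonoidHom.mk' (fun s => Units.mk0 (cube (φ ((F.equiv h).symm s))) (by
      exact pow_ne_zero _ (cube_root.ne_zero (by norm_num)))) fun s t => by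
    refine Units.ext ?_
    show cube _ = cube _ * cube _
    rw [← cube_add, ← map_add]
    congr 2
    rw [Equiv.symm_apply_eq]
    refine Subtype.ext ?_
    show (s : G) * t = F.el _
    rw [F.add]
    exact congrArg₂ (· * ·) (congrArg Subtype.val ((F.equiv h).apply_symm_apply s)).symm
      (congrArg Subtype.val ((F.equiv h).apply_symm_apply t)).symm
  have e1 : F.R h f = indFun S (fun s => 1 - (lam s : ℂ)) := by
    have e2 : F.fS h (fun v => (f v : ℂ)) = ∑ j : Fin e, F.fS h fun v => 1 - cube (φ (F.M j v)) := by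
      funext s
      rw [Finset.sum_apply]
      exact hf _
    rw [R, e2, indFun_sum, Finset.sum_congr rfl fun j _ => F.indFun_M h (fun v => 1 - cube (φ v)) j,
      Finset.sum_const, Finset.card_univ, Fintype.card_fin, ← Nat.cast_smul_eq_nsmul ℂ, smul_smul,
      inv_mul_cancel₀ (by exact_mod_cast he), one_smul]
    rfl
  rw [e1]
  exact isGeneralizedCharacter_indFun S (isGeneralizedCharacter_sub
    (isGeneralizedCharacter_of_isCharacter (isCharacter_of_isIrr isIrrCharacter_one))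
    (isGeneralizedCharacter_of_isCharacter (isCharacter_hom lam)))

end Frame

end CfsgLib.Char.NineTI
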