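import Cfsg.Agent.Lib.Char.NineTI.Setup

/-!
# Values of signed irreducible characters at the two kinds of elements
-/

set_option autoImplicit false
set_option linter.unusedSectionVars false

namespace CfsgLib.Char.NineTI

open scoped ComplexConjugate
open Cfsg CfsgLib.Char CfsgLib.Char.Signed

universe u

variable {G : Type u} [Group G] [Fintype G]

theorem sg_unit : Sg (fun _ : G => (1 : ℂ)) := Sg.of_irr ⟨_, isIrrCharacter_one⟩

theorem qfun_smul (i : G) (c : ℂ) (v : G → ℂ) : qfun i (c • v) = c * qfun i v := by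
  have := Fintype.ofFinite (IrrCharacter G)
  simp only [qfun, finsum_eq_sum_of_fintype, classInner_smul_left, Finset.mul_sum]
  exact Finset.sum_congr rfl fun χ _ => by ring

/-- A norm three generalized character is the sum of three orthogonal signed irreducibles. -/
theorem exists_three {f : G → ℂ} (hf : Gen f) (h3 : iq f f = 3) :
    ∃ a b c : G → ℂ, Sg a ∧ Sg b ∧ Sg c ∧ iq a b = 0 ∧ iq a c = 0 ∧ iq b c = 0 ∧ f = a + b + c := by
  have : Fintype (IrrCharacter G) := Fintype.ofFinite _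
  classical
  obtain ⟨m, hm, he, hn⟩ := generalized_expand hf
  have hsum : ∑ ψ, m ψ ^ 2 = 3 := by rw [← iq_eq _ hn, h3]
  obtain ⟨χ, hχ⟩ : ∃ χ, m χ ≠ 0 := by
    by_contra hc
    simp only [not_exists, not_not] at hc
    simp [hc] at hsum
  have hsq : m χ ^ 2 ≤ 3 :=
    hsum ▸ Finset.single_le_sum (fun i _ => sq_nonneg (m i)) (Finset.mem_univ χ)
  have hu : m χ = 1 ∨ m χ = -1 := by
    have h1 : m χ ≤ 1 := by nlinarith
    have h2 : -1 ≤ m χ := by nlinarith
    omega
  set a : G → ℂ := (m χ : ℂ) • (χ : G → ℂ) with ha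
  have hag : Gen a := Gen.zsmul (Sg.of_irr χ).gen _
  have hfχ : iq f (χ : G → ℂ) = m χ := iq_eq _ (hm χ)
  have haa : iq a a = 1 := by
    rw [iq_smul_left (Sg.of_irr χ).gen hag, iq_smul_right (Sg.of_irr χ).gen (Sg.of_irr χ).gen,
      (Sg.of_irr χ).iq_self]
    rcases hu with h | h <;> simp [h]
  have hfa : iq f a = 1 := by
    rw [iq_smul_right hf (Sg.of_irr χ).gen, hfχ]
    rcases hu with h | h <;> simp [h]
  have hrg : Gen (f - a) := isGeneralizedCharacter_sub hf hag
  have hr2 : iq (f - a) (f - a) = 2 := by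
    rw [iq_sub_left hf hag hrg, iq_sub_right hf hf hag, iq_sub_right hag hf hag, h3, haa, hfa,
      iq_comm hag hf, hfa]
    norm_num
  obtain ⟨b, c, hb, hc, hbc, he'⟩ := exists_pair hrg hr2
  have hra : iq (f - a) a = 0 := by rw [iq_sub_left hf hag hag, hfa, haa]; norm_num
  have hA : Sg a := Sg.of_iq hag haa
  have hkey : iq b a + iq c a = 0 := by rw [← iq_add_left hb.gen hc.gen hag, ← he', hra]
  have hone : ¬(iq b a ≠ 0 ∧ iq c a ≠ 0) := by
    rintro ⟨h1, h2⟩
    rcases hb.iq_cases hA with e | ⟨-, e⟩ | ⟨-, e⟩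
    · exact h1 e
    · rcases hc.iq_cases hA with e' | ⟨-, e'⟩ | ⟨-, e'⟩
      · exact h2 e'
      · rw [e, e', haa] at hbc; omega
      · rw [e, e', iq_neg_right hag hag, haa] at hbc; omega
    · rcases hc.iq_cases hA with e' | ⟨-, e'⟩ | ⟨-, e'⟩
      · exact h2 e'
      · rw [e, e', iq_neg_left hag hag, haa] at hbc; omega
      · rw [e, e', iq_neg_left hag (isGeneralizedCharacter_neg hag), iq_neg_right hag hag, haa] at hbc
        omega
  refine ⟨a, b, c, hA, hb, hc, ?_, ?_, hbc, by rw [add_assoc, ← he', add_sub_cancel]⟩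
  · rw [iq_comm hag hb.gen]; omega
  · rw [iq_comm hag hc.gen]; omega

/-- Orthogonality to a sum of three orthogonal signed irreducibles descends to the summands. -/
theorem orth_summand {a b c z : G → ℂ} (ha : Sg a) (hb : Sg b) (hc : Sg c) (hab : iq a b = 0)
    (hac : iq a c = 0) (hbc : iq b c = 0) (hz : Sg z) (h : iq (a + b + c) z = 0) :
    iq a z = 0 ∧ iq b z = 0 ∧ iq c z = 0 := by
  have hs : iq a z + iq b z + iq c z = 0 := by
    rw [← iq_add_left ha.gen hb.gen hz.gen, ← iq_add_left (isGeneralizedCharacter_add ha.gen hb.gen) hc.gen hz.gen, h]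
  have key : ∀ p q : G → ℂ, Sg p → Sg q → iq p q = 0 → iq p z = 0 ∨ iq q z = 0 := by
    intro p q hp hq hpq
    have hb' := Orth.bessel (l := [p, q]) ⟨by simp [hp, hq], by simp [hpq]⟩ hz.gen
    simp only [List.map_cons, List.map_nil, List.sum_cons, List.sum_nil, hz.iq_self,
      iq_comm hz.gen hp.gen, iq_comm hz.gen hq.gen] at hb'
    by_contra hcon
    rw [not_or] at hcon
    have h1 : 1 ≤ iq p z ^ 2 := by
      have := mul_self_pos.2 hcon.1
      rw [pow_two]
      omega
    have h2 : 1 ≤ iq q z ^ 2 := by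
      have := mul_self_pos.2 hcon.2
      rw [pow_two]
      omega
    omega
  rcases key a b ha hb hab with e1 | e1 <;> rcases key a c ha hc hac with e2 | e2 <;>
    rcases key b c hb hc hbc with e3 | e3 <;> omega

theorem not_unit_value (hlin : ∀ φ : G →* ℂˣ, φ = 1) {w : G → ℂ} (hw : Sg w)
    (hw1 : iq w (fun _ => 1) = 0) : w 1 ≠ 1 := by
  intro h1
  obtain ⟨φ, hφ⟩ := hw.exists_hom h1
  rw [hlin φ] at hφ
  rw [show w = fun _ => (1 : ℂ) from funext fun g => by rw [← hφ g]; simp, sg_unit.iq_self] at hw1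
  norm_num at hw1

variable {S : Subgroup G} {e : ℕ}

theorem Frame.el_neg (F : Frame S e) (v : V9) : F.el (-v) = (F.el v)⁻¹ :=
  eq_inv_of_mul_eq_one_left (by rw [← F.add, neg_add_cancel, F.el_zero])

theorem Frame.isConj_iff_orbit (F : Frame S e) (h : Hyp S) {v w : V9} (hv : v ≠ 0) :
    IsConj (F.el v) (F.el w) ↔ ∃ j, F.M j v = w := by
  refine ⟨fun hc => ?_, fun ⟨j, hj⟩ => hj ▸ F.isConj_M j v⟩
  obtain ⟨g, hg⟩ := isConj_iff.1 hc
  have hgN : g ∈ Subgroup.normalizer (S : Set G) := by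
    by_contra hgN
    exact F.el_ne_one hv (ca_ti S h.cent g hgN _ (F.mem v) (hg ▸ F.mem w))
  obtain ⟨j, hj⟩ := F.cover g hgN
  refine ⟨j, F.inj ?_⟩
  rw [← hg, ← F.act]
  calc F.rep j * F.el v * (F.rep j)⁻¹ = F.rep j * (((F.rep j)⁻¹ * g) * F.el v) *
        ((F.rep j)⁻¹ * g)⁻¹ * (F.rep j)⁻¹ := by rw [h.comm hj (F.mem v)]; group
    _ = g * F.el v * g⁻¹ := by group

/-- The value at a class is the combination of multiplicities. -/
theorem Frame.value_eq (F : Frame S e) (h : Hyp S) (he : e ≠ 0) {v₀ : V9} {k : V9 → ℤ}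
    (hval : ∀ v, k v = 0 ∨ k v = 1) (hsum : ∑ v : V9, k v = e)
    (horb : ∀ v, k v = 1 → IsConj (F.el v₀) (F.el v)) {χ : G → ℂ} (hχ : Gen χ) {X : G → ℂ}
    (hX : (9 : ℂ) • F.R h k = X) (m : ℤ) (hm : classInner X χ = m) : χ (F.el v₀) = m := by
  have h1 := F.inner_indicator h he hval hsum horb (isClassFunction_of_isGeneralized hχ)
  rw [← hX, classInner_smul_left, h1] at hm
  have h2 : conj (χ (F.el v₀)) = (m : ℂ) := by rw [← hm]; ring
  rw [← Complex.conj_conj (χ (F.el v₀)), h2, map_intCast]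

end CfsgLib.Char.NineTI
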